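import Groth.Agent.Ram15.Tangent
import Mathlib.RingTheory.Polynomial.Resultant.Basic
import Mathlib.Algebra.TrivSqZeroExt.Basic

/-! Charts on the space of pencils with ramification at moving points. -/

open Polynomial

namespace Groth.Agent.Ram15

universe u
variable {k : Type u} [Field k]

theorem resultant_ne_zero_iff {d : ℕ} (F G : k[X]) (hF : F.natDegree ≤ d) (hG : G.natDegree ≤ d) :
    resultant F G d d ≠ 0 ↔
      ∀ a b : k[X], a ∈ degreeLT k d → b ∈ degreeLT k d → F * b + G * a = 0 → a = 0 ∧ b = 0 := by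
  let L := sylvesterMap F G hF hG
  let b1 := ((degreeLT.basis k d).prod (degreeLT.basis k d)).reindex finSumFinEquiv
  let b2 := degreeLT.basis k (d + d)
  have hM : LinearMap.toMatrix b1 b2 L = sylvester F G d d := by
    have h := toMatrix_sylvesterMap F G hF hG
    ext i j
    have hij := congrFun (congrFun h i) (finSumFinEquiv.symm j)
    simp only [LinearMap.toMatrix_apply, b1, b2, Module.Basis.reindex_apply, L] at hij ⊢
    rw [hij]; simp
  have hinj : Function.Injective L ↔ Function.Injective (sylvester F G d d).mulVec := by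
    rw [← hM]
    constructor
    · intro h x y hxy
      have hx : ∀ z, (LinearMap.toMatrix b1 b2 L).mulVec z = b2.equivFun (L (b1.equivFun.symm z)) := fun z => by
        conv_lhs => rw [← b1.equivFun.apply_symm_apply z]
        exact LinearMap.toMatrix_mulVec_repr b1 b2 L _
      rw [hx, hx] at hxy
      exact b1.equivFun.symm.injective (h (b2.equivFun.injective hxy))
    · intro h x y hxy
      apply b1.repr.injective
      apply DFunLike.coe_injective
      apply h
      rw [LinearMap.toMatrix_mulVec_repr, LinearMap.toMatrix_mulVec_repr, hxy]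
  rw [show resultant F G d d = (sylvester F G d d).det from rfl, ← isUnit_iff_ne_zero,
    ← Matrix.isUnit_iff_isUnit_det, ← Matrix.mulVec_injective_iff_isUnit, ← hinj, injective_iff_map_eq_zero]
  constructor
  · intro h a b ha hb hab
    have := h (⟨a, ha⟩, ⟨b, hb⟩) (Subtype.ext hab)
    simpa [Prod.ext_iff, Subtype.ext_iff] using this
  · rintro h ⟨⟨a, ha⟩, ⟨b, hb⟩⟩ hab
    obtain ⟨ra, rb⟩ := h a b ha hb (congrArg Subtype.val hab)
    exact Prod.ext (Subtype.ext ra) (Subtype.ext rb)

variable {d n : ℕ}

/-- The non-pivot exponents. -/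
abbrev Free (pa pb : Fin (d + 1)) : Type := {c : Fin (d + 1) // c ≠ pa ∧ c ≠ pb}

/-- The variables of a chart: coefficients, moving points, moving members. -/
abbrev Var (n : ℕ) (pa pb : Fin (d + 1)) : Type := (Bool × Free pa pb) ⊕ (Fin n ⊕ Fin n)

variable (pa pb : Fin (d + 1))

/-- The polynomial with leading pivot `pp` and free coefficients from the variables. -/
noncomputable def uPoly {R : Type u} [CommRing R] (t : Var n pa pb → R) (pp : Fin (d + 1)) (b : Bool) : R[X] :=
  X ^ (pp : ℕ) + ∑ c : Free pa pb, C (t (Sum.inl (b, c))) * X ^ (c.1 : ℕ)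

/-- The moving member. -/
noncomputable def uMem {R : Type u} [CommRing R] (t : Var n pa pb → R) (ch : Fin n → Bool) (i : Fin n) : R[X] :=
  (bif ch i then uPoly pa pb t pb true else uPoly pa pb t pa false) +
    C (t (Sum.inr (Sum.inr i))) * (bif ch i then uPoly pa pb t pa false else uPoly pa pb t pb true)

variable {pa pb}

theorem uPoly_map {R S : Type u} [CommRing R] [CommRing S] (f : R →+* S) (t : Var n pa pb → R)
    (pp : Fin (d + 1)) (b : Bool) :
    (uPoly pa pb t pp b).map f = uPoly pa pb (fun x => f (t x)) pp b := by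
  simp [uPoly, Polynomial.map_sum]

theorem uMem_map {R S : Type u} [CommRing R] [CommRing S] (f : R →+* S) (t : Var n pa pb → R)
    (ch : Fin n → Bool) (i : Fin n) :
    (uMem pa pb t ch i).map f = uMem pa pb (fun x => f (t x)) ch i := by
  cases h : ch i <;> simp [uMem, h, uPoly_map]

theorem uPoly_natDegree {R : Type u} [CommRing R] (t : Var n pa pb → R) (pp : Fin (d + 1)) (b : Bool) :
    (uPoly pa pb t pp b).natDegree ≤ d := by
  refine natDegree_add_le_of_degree_le ((natDegree_X_pow_le _).trans (Nat.lt_succ_iff.1 pp.isLt))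
    (natDegree_sum_le_of_forall_le _ _ fun c _ => (natDegree_C_mul_le _ _).trans
      ((natDegree_X_pow_le _).trans (Nat.lt_succ_iff.1 c.1.isLt)))

theorem uPoly_coeff_pivot {R : Type u} [CommRing R] (t : Var n pa pb → R) (pp : Fin (d + 1)) (b : Bool)
    (q : Fin (d + 1)) (hq : q = pa ∨ q = pb) :
    (uPoly pa pb t pp b).coeff (q : ℕ) = if q = pp then 1 else 0 := by
  rw [uPoly, coeff_add, coeff_X_pow, finset_sum_coeff, Finset.sum_eq_zero, add_zero]
  · simp [Fin.val_inj]
  · intro c _
    rw [coeff_C_mul, coeff_X_pow, if_neg, mul_zero]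
    rw [Fin.val_inj]
    rintro rfl
    rcases hq with h | h
    · exact c.2.1 h
    · exact c.2.2 h

/-- Deformation of a coefficient polynomial. -/
noncomputable def dPoly (b : Bool) : (Var n pa pb → k) →ₗ[k] k[X] :=
  ∑ c : Free pa pb, (monomial (c.1 : ℕ)).comp (LinearMap.proj (Sum.inl (b, c)))

theorem dPoly_apply (b : Bool) (δ : Var n pa pb → k) :
    dPoly b δ = ∑ c : Free pa pb, C (δ (Sum.inl (b, c))) * X ^ (c.1 : ℕ) := by
  simp [dPoly, LinearMap.sum_apply, C_mul_X_pow_eq_monomial]

theorem dPoly_spec (b : Bool) (δ : Var n pa pb → k) :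
    (dPoly b δ).natDegree ≤ d ∧ (dPoly b δ).coeff pa = 0 ∧ (dPoly b δ).coeff pb = 0 := by
  rw [dPoly_apply]
  refine ⟨natDegree_sum_le_of_forall_le _ _ fun c _ => (natDegree_C_mul_le _ _).trans
      ((natDegree_X_pow_le _).trans (Nat.lt_succ_iff.1 c.1.isLt)), ?_, ?_⟩ <;>
    rw [finset_sum_coeff] <;>
    refine Finset.sum_eq_zero fun c _ => ?_
  · rw [coeff_C_mul, coeff_X_pow, if_neg, mul_zero]
    rw [Fin.val_inj]; exact Ne.symm c.2.1
  · rw [coeff_C_mul, coeff_X_pow, if_neg, mul_zero]
    rw [Fin.val_inj]; exact Ne.symm c.2.2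

theorem dPoly_coeff (b : Bool) (δ : Var n pa pb → k) (c : Free pa pb) :
    (dPoly b δ).coeff (c.1 : ℕ) = δ (Sum.inl (b, c)) := by
  rw [dPoly_apply, finset_sum_coeff, Finset.sum_eq_single c]
  · simp
  · intro x _ hx
    rw [coeff_C_mul, coeff_X_pow, if_neg, mul_zero]
    rw [Fin.val_inj]; exact fun h => hx (Subtype.ext h.symm)
  · simp

section Dual

variable {σ : Type} [Fintype σ] [DecidableEq σ] (t δ : σ → k)

/-- First order evaluation of the coefficients. -/
noncomputable def theta : MvPolynomial σ k →+* TrivSqZeroExt k[X] k[X] :=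
  MvPolynomial.eval₂Hom ((TrivSqZeroExt.inlHom k[X] k[X]).comp C)
    fun x => TrivSqZeroExt.inl (C (t x)) + TrivSqZeroExt.inr (C (δ x))

theorem theta_fst (r : MvPolynomial σ k) :
    TrivSqZeroExt.fst (theta t δ r) = C (MvPolynomial.eval t r) := by
  induction r using MvPolynomial.induction_on with
  | C a => simp [theta]
  | add p q hp hq => simp [map_add, hp, hq]
  | mul_X p x hp => rw [map_mul, TrivSqZeroExt.fst_mul, hp]; simp [theta]

theorem theta_snd (r : MvPolynomial σ k) :
    TrivSqZeroExt.snd (theta t δ r) =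
      C (∑ x, δ x * MvPolynomial.eval t (MvPolynomial.pderiv x r)) := by
  induction r using MvPolynomial.induction_on with
  | C a => simp [theta]
  | add p q hp hq => simp [map_add, hp, hq, mul_add, Finset.sum_add_distrib]
  | mul_X p y hp =>
      have h1 : ∑ x, δ x * MvPolynomial.eval t (MvPolynomial.pderiv x (p * MvPolynomial.X y)) =
          (∑ x, δ x * MvPolynomial.eval t (MvPolynomial.pderiv x p)) * t y +
            MvPolynomial.eval t p * δ y := by
        simp only [MvPolynomial.pderiv_mul, map_add, map_mul, MvPolynomial.eval_X, mul_add,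
          Finset.sum_add_distrib, Finset.sum_mul]
        congr 1
        · exact Finset.sum_congr rfl fun x _ => by ring
        · rw [Finset.sum_eq_single y]
          · rw [MvPolynomial.pderiv_X_self, map_one]; ring
          · intro x _ hx; rw [MvPolynomial.pderiv_X_of_ne (Ne.symm hx), map_zero]; ring
          · simp
      rw [map_mul, TrivSqZeroExt.snd_mul, theta_fst, hp, h1]
      simp [theta]
      ring

/-- First order evaluation of polynomials. -/
noncomputable def Theta : (MvPolynomial σ k)[X] →+* TrivSqZeroExt k[X] k[X] :=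
  eval₂RingHom (theta t δ) (TrivSqZeroExt.inl X)

theorem Theta_fst (q : (MvPolynomial σ k)[X]) :
    TrivSqZeroExt.fst (Theta t δ q) = q.map (MvPolynomial.eval t) := by
  induction q using Polynomial.induction_on' with
  | add p q hp hq => simp [map_add, hp, hq]
  | monomial m a => simp [Theta, theta_fst, ← C_mul_X_pow_eq_monomial, TrivSqZeroExt.fst_pow]

theorem Theta_X_snd : TrivSqZeroExt.snd (Theta t δ X) = 0 := by simp [Theta]

theorem Theta_C_snd (a : MvPolynomial σ k) :
    TrivSqZeroExt.snd (Theta t δ (C a)) = TrivSqZeroExt.snd (theta t δ a) := by simp [Theta]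

theorem Theta_mul_snd (p q : (MvPolynomial σ k)[X]) : TrivSqZeroExt.snd (Theta t δ (p * q)) =
    p.map (MvPolynomial.eval t) * TrivSqZeroExt.snd (Theta t δ q) +
      q.map (MvPolynomial.eval t) * TrivSqZeroExt.snd (Theta t δ p) := by
  rw [map_mul, TrivSqZeroExt.snd_mul, Theta_fst, Theta_fst]
  simp only [smul_eq_mul, MulOpposite.smul_eq_mul_unop, MulOpposite.unop_op]
  ring

theorem Theta_coeff (q : (MvPolynomial σ k)[X]) (j : ℕ) :
    (TrivSqZeroExt.snd (Theta t δ q)).coeff j =
      ∑ x, δ x * MvPolynomial.eval t (MvPolynomial.pderiv x (q.coeff j)) := by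
  induction q using Polynomial.induction_on' with
  | add p q hp hq => simp [map_add, hp, hq, mul_add, Finset.sum_add_distrib]
  | monomial m a =>
      have hX : ∀ m : ℕ, TrivSqZeroExt.snd (Theta t δ (X ^ m)) = 0 := fun m => by
        induction m with
        | zero => simp
        | succ m ih => rw [pow_succ, Theta_mul_snd, ih, Theta_X_snd]; simp
      rw [← C_mul_X_pow_eq_monomial, Theta_mul_snd, hX, Theta_C_snd, theta_snd, mul_zero, zero_add]
      simp only [← map_pow, ← Polynomial.map_pow, map_X, coeff_C_mul, coeff_X_pow, Polynomial.map_pow, mul_comm (X ^ m)]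
      split_ifs <;> simp

theorem Theta_comp_snd (q r : (MvPolynomial σ k)[X]) :
    TrivSqZeroExt.snd (Theta t δ (q.comp r)) =
      (TrivSqZeroExt.snd (Theta t δ q)).comp (r.map (MvPolynomial.eval t)) +
        (derivative (q.map (MvPolynomial.eval t))).comp (r.map (MvPolynomial.eval t)) *
          TrivSqZeroExt.snd (Theta t δ r) := by
  induction q using Polynomial.induction_on with
  | C a =>
      rw [C_comp, map_C, derivative_C, zero_comp, zero_mul, add_zero, Theta_C_snd, theta_snd, C_comp]
  | add p q hp hq =>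
      simp only [add_comp, map_add, TrivSqZeroExt.snd_add, hp, hq, Polynomial.map_add]
      ring
  | monomial m a ih =>
      rw [pow_succ, ← mul_assoc]
      generalize C a * X ^ m = q at ih ⊢
      rw [mul_comp, X_comp, Theta_mul_snd t δ (q.comp r) r, ih, Theta_mul_snd t δ q X, Theta_X_snd,
        Polynomial.map_mul, Polynomial.map_X, derivative_mul, derivative_X,
        Polynomial.map_comp]
      simp only [add_comp, mul_comp, X_comp, zero_comp, mul_zero, zero_add, mul_one]
      ring

end Dual

end Groth.Agent.Ram15
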