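import Groth.Agent.Gen15.Isolated
import Groth.Agent.DimLib.Algebra

/-! Generic finiteness from a bound on tangent spaces. -/

open MvPolynomial

namespace Groth.Agent.Ram15

universe u v
variable {k : Type u} [Field k] [IsAlgClosed k] {σ : Type} [Fintype σ] [DecidableEq σ]

theorem gradient_codim {ι : Type v} (v : ι → σ → k) (N : ℕ)
    (h : ∀ T : Submodule k (σ → k), (∀ δ ∈ T, ∀ i, ∑ x, δ x * v i x = 0) → Module.finrank k T ≤ N) :
    ∃ w : Fin N → σ → k, Submodule.span k (Set.range v ∪ Set.range w) = ⊤ := by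
  classical
  let W : Submodule k (σ → k) := Submodule.span k (Set.range v)
  let e : Module.Dual k (σ → k) ≃ₗ[k] (σ → k) := (dotProductEquiv k σ).symm
  have hann : Module.finrank k W.dualAnnihilator ≤ N := by
    rw [← LinearEquiv.finrank_map_eq e W.dualAnnihilator]
    refine h _ fun δ hδ i => ?_
    obtain ⟨f, hf, rfl⟩ := Submodule.mem_map.1 hδ
    have h0 := (Submodule.mem_dualAnnihilator f).1 hf _ (Submodule.subset_span ⟨i, rfl⟩)
    rw [pi_eq_sum_univ' (v i), map_sum] at h0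
    simpa [e, map_smul, mul_comm] using h0
  have hq : Module.finrank k ((σ → k) ⧸ W) ≤ N := by
    rw [← Subspace.dual_finrank_eq, (Submodule.dualQuotEquivDualAnnihilator W).finrank_eq]
    exact hann
  obtain ⟨C, hC⟩ := Submodule.exists_isCompl W
  have hCN : Module.finrank k C ≤ N := by
    rw [← (Submodule.quotientEquivOfIsCompl W C hC).finrank_eq]; exact hq
  let bC := Module.finBasis k C
  refine ⟨fun j => if hj : (j : ℕ) < Module.finrank k C then (bC ⟨j, hj⟩ : σ → k) else 0, ?_⟩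
  rw [eq_top_iff, ← hC.sup_eq_top, Submodule.span_union]
  refine sup_le le_sup_left (le_trans ?_ le_sup_right)
  intro x hx
  have hx' : x = ∑ j, bC.repr ⟨x, hx⟩ j • (bC j : σ → k) := by
    have h := congrArg Subtype.val (bC.sum_repr ⟨x, hx⟩)
    simp only [Submodule.coe_sum, Submodule.coe_smul] at h
    exact h.symm
  rw [hx']
  refine Submodule.sum_mem _ fun j _ => Submodule.smul_mem _ _ (Submodule.subset_span
    ⟨⟨j, lt_of_lt_of_le j.isLt hCN⟩, ?_⟩)
  simp

theorem domain_dependent (𝔭 : Ideal (MvPolynomial σ k)) [𝔭.IsPrime] {ι : Type v}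
    (g : ι → MvPolynomial σ k) (hg : ∀ i, g i ∈ 𝔭) (t : σ → k) (ht : ∀ f ∈ 𝔭, eval t f = 0) (N : ℕ)
    (htan : ∀ T : Submodule k (σ → k),
      (∀ δ ∈ T, ∀ i, ∑ x, δ x * eval t (pderiv x (g i)) = 0) → Module.finrank k T ≤ N)
    {κ : Type} [Fintype κ] (hκ : N < Fintype.card κ) (y : κ → MvPolynomial σ k) :
    ∃ Φ : MvPolynomial κ k, Φ ≠ 0 ∧ aeval y Φ ∈ 𝔭 := by
  classical
  let D := MvPolynomial σ k ⧸ 𝔭
  let q : MvPolynomial σ k →ₐ[k] D := Ideal.Quotient.mkₐ k 𝔭
  let Jt : Ideal (MvPolynomial σ k) := Ideal.span (Set.range fun x => X x - C (t x))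
  obtain ⟨w, hw⟩ := gradient_codim (fun i x => eval t (pderiv x (g i))) N htan
  let Y : Fin N → MvPolynomial σ k := fun j => ∑ x, C (w j x) * (X x - C (t x))
  let G : Ideal D := Ideal.span (Set.range fun j => q (Y j))
  let m : Ideal D := Jt.map q
  have hlin : ∀ c ∈ Submodule.span k (Set.range (fun i x => eval t (pderiv x (g i))) ∪ Set.range w),
      q (∑ x, C (c x) * (X x - C (t x))) ∈ G ⊔ m * m := by
    intro c hc
    induction hc using Submodule.span_induction with
    | mem c hc =>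
        rcases hc with ⟨i, rfl⟩ | ⟨j, rfl⟩
        · refine Ideal.mem_sup_right ?_
          have h1 := Gen15.taylor_one t (g i)
          rw [ht _ (hg i), map_zero, sub_zero] at h1
          have h2 := Ideal.mem_map_of_mem q h1
          rw [Ideal.map_mul, map_sub, show q (g i) = 0 from Ideal.Quotient.eq_zero_iff_mem.2 (hg i),
            zero_sub] at h2
          exact (Ideal.neg_mem_iff _).1 h2
        · exact Ideal.mem_sup_left (Ideal.subset_span ⟨j, rfl⟩)
    | zero => simp
    | add a b _ _ ha hb =>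
        have := (G ⊔ m * m).add_mem ha hb
        simpa [add_mul, Finset.sum_add_distrib] using this
    | smul r a _ ha =>
        have := (G ⊔ m * m).mul_mem_left (q (C r)) ha
        rw [← map_mul, Finset.mul_sum] at this
        convert this using 3
        rw [Pi.smul_apply, smul_eq_mul, map_mul, mul_assoc]
  have hGm : G ≤ m := by
    refine Ideal.span_le.2 ?_
    rintro _ ⟨j, rfl⟩
    exact Ideal.mem_map_of_mem q
      (Jt.sum_mem fun x _ => Jt.mul_mem_left _ (Ideal.subset_span ⟨x, rfl⟩))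
  have hm : m ≤ G ⊔ m * m := by
    show Ideal.map q (Ideal.span _) ≤ _
    rw [Ideal.map_span]
    refine Ideal.span_le.2 ?_
    rintro _ ⟨_, ⟨x, rfl⟩, rfl⟩
    have := hlin (Pi.single x 1) (by rw [hw]; trivial)
    rw [Finset.sum_eq_single x] at this
    · simpa using this
    · intro z _ hz; simp [hz]
    · simp
  have hker : ∀ a ∈ 𝔭, (eval t) a = 0 := ht
  let et : D →+* k := Ideal.Quotient.lift 𝔭 (eval t) hker
  have hetm : ∀ a ∈ m, et a = 0 := by
    intro a ha
    have : m ≤ RingHom.ker et := by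
      show Ideal.map q (Ideal.span _) ≤ _
      rw [Ideal.map_span]
      refine Ideal.span_le.2 ?_
      rintro _ ⟨_, ⟨x, rfl⟩, rfl⟩
      show et (Ideal.Quotient.mk 𝔭 (X x - C (t x))) = 0
      rw [Ideal.Quotient.lift_mk, map_sub, eval_X, eval_C, sub_self]
    exact this ha
  have hmax : m = RingHom.ker et := by
    refine le_antisymm hetm ?_
    intro a ha
    obtain ⟨f, rfl⟩ := Ideal.Quotient.mk_surjective a
    rw [RingHom.mem_ker, Ideal.Quotient.lift_mk] at ha
    refine Ideal.mem_map_of_mem q ?_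
    have h1 := Gen15.taylor_one t f
    rw [ha, map_zero, sub_zero] at h1
    have h2 : ∑ x, C (eval t (pderiv x f)) * (X x - C (t x)) ∈ Jt :=
      Jt.sum_mem fun x _ => Jt.mul_mem_left _ (Ideal.subset_span ⟨x, rfl⟩)
    simpa using Jt.add_mem (Ideal.mul_le_right h1) h2
  haveI : m.IsMaximal := hmax ▸ RingHom.ker_isMaximal_of_surjective et
    (fun c => ⟨Ideal.Quotient.mk 𝔭 (C c), by rw [Ideal.Quotient.lift_mk, eval_C]⟩)
  haveI : IsNoetherianRing D := Ideal.Quotient.isNoetherianRing 𝔭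
  obtain ⟨r, hr1, hr⟩ := Submodule.exists_sub_one_mem_and_smul_eq_zero_of_fg_of_le_smul m
    (Submodule.map G.mkQ m) (Submodule.FG.map _ (IsNoetherian.noetherian m)) (by
      rw [← Submodule.map_smul'']
      refine (Submodule.map_mono hm).trans ?_
      rw [Submodule.map_sup, Submodule.mkQ_map_self, bot_sup_eq]
      exact le_of_eq rfl)
  have hr0 : r ∉ m := fun h => Ideal.IsMaximal.ne_top ‹m.IsMaximal› ((Ideal.eq_top_iff_one m).2 (by
    simpa using m.sub_mem h hr1))
  have hmin : m ∈ G.minimalPrimes := by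
    refine ⟨⟨inferInstance, hGm⟩, fun Q hQ hQm a ha => ?_⟩
    have h1 := hr _ (Submodule.mem_map_of_mem ha)
    rw [← map_smul, Submodule.mkQ_apply, Submodule.Quotient.mk_eq_zero, smul_eq_mul] at h1
    exact (hQ.1.mem_or_mem (hQ.2 h1)).resolve_left fun h => hr0 (hQm h)
  have hh : m.height ≤ (N : ℕ∞) := by
    refine (Ideal.height_le_spanRank_toENat_of_mem_minimalPrimes G m hmin).trans ?_
    have h1 : G.spanRank ≤ (N : Cardinal) := by
      refine (Submodule.spanRank_span_le_card (R := D) (Set.range fun j => q (Y j))).trans ?_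
      have he : Set.range (fun j => q (Y j)) = ↑(Finset.univ.image fun j => q (Y j)) := by simp
      rw [he, Finset.coe_sort_coe, Cardinal.mk_coe_finset]
      exact_mod_cast Finset.card_image_le.trans (by simp)
    calc G.spanRank.toENat ≤ (N : Cardinal).toENat := Cardinal.toENat.monotone' h1
      _ = (N : ℕ∞) := Cardinal.toENat_nat N
  have hdim := DimLib.height_eq_of_isMaximal (k := k) m
  obtain ⟨s, _, -, -, hs1, hs2⟩ := DimLib.exists_normalization (k := k) (A := D)
  rw [hs1] at hdim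
  have hsN : s ≤ N := by
    have h0 : (s : WithBot ℕ∞) ≤ ((N : ℕ∞) : WithBot ℕ∞) := by
      rw [← hdim]; exact WithBot.coe_le_coe.2 hh
    exact_mod_cast h0
  by_contra hc
  push Not at hc
  have hi : AlgebraicIndependent k fun a => q (y a) := algebraicIndependent_iff.2 fun f hf => by
    by_contra hf0
    refine hc f hf0 (Ideal.Quotient.eq_zero_iff_mem.1 ?_)
    rw [← hf]
    exact (DFunLike.congr_fun (comp_aeval y q) f)
  have h1 := hi.lift_cardinalMk_le_trdeg
  rw [hs2, Cardinal.mk_fintype] at h1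
  simp only [Cardinal.lift_natCast, Nat.cast_le] at h1
  omega

variable {ι : Type v} (g : ι → MvPolynomial σ k) (h : MvPolynomial σ k) {n : ℕ} (pr : Fin n → σ) (N : ℕ)
  (htan : ∀ t : σ → k, (∀ i, eval t (g i) = 0) → eval t h ≠ 0 → ∀ T : Submodule k (σ → k),
      (∀ δ ∈ T, ∀ i, ∑ x, δ x * eval t (pderiv x (g i)) = 0) → Module.finrank k T ≤ N)
include htan

theorem component_dependent {κ : Type} [Fintype κ] (hκ : N < Fintype.card κ) (y : κ → MvPolynomial σ k) :
    ∃ (Φ : Finset (MvPolynomial κ k)), (∀ f ∈ Φ, f ≠ 0) ∧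
      ∀ t : σ → k, (∀ i, eval t (g i) = 0) → eval t h ≠ 0 →
        ∃ f ∈ Φ, eval (fun a => eval t (y a)) f = 0 := by
  classical
  let I : Ideal (MvPolynomial σ k) := Ideal.span (Set.range g)
  have hfin : {𝔭 ∈ I.minimalPrimes | h ∉ 𝔭}.Finite :=
    (Ideal.finite_minimalPrimes_of_isNoetherianRing _ I).subset fun _ hx => hx.1
  have hex : ∀ 𝔭 ∈ hfin.toFinset, ∃ Φ : MvPolynomial κ k, Φ ≠ 0 ∧ aeval y Φ ∈ 𝔭 := by
    intro 𝔭 hp
    rw [Set.Finite.mem_toFinset] at hp
    obtain ⟨hp, hh⟩ := hp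
    haveI := hp.1.1
    have hg : ∀ i, g i ∈ 𝔭 := fun i => hp.1.2 (Ideal.subset_span ⟨i, rfl⟩)
    obtain ⟨t, ht, hth⟩ : ∃ t, (∀ f ∈ 𝔭, eval t f = 0) ∧ eval t h ≠ 0 := by
      by_contra hc
      push Not at hc
      apply hh
      have hrad : h ∈ 𝔭.radical := by
        rw [← vanishingIdeal_zeroLocus_eq_radical (K := k), mem_vanishingIdeal_iff]
        intro t ht
        have := hc t fun f hf => by simpa [aeval_eq_eval] using ht f hf
        simpa [aeval_eq_eval] using this
      exact (Ideal.IsPrime.isRadical ‹_›) hrad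
    exact domain_dependent 𝔭 g hg t ht N (htan t (fun i => ht _ (hg i)) hth) hκ y
  choose Φ hΦ0 hΦ using hex
  refine ⟨hfin.toFinset.attach.image fun 𝔭 => Φ 𝔭.1 𝔭.2, ?_, fun t ht hth => ?_⟩
  · intro f hf
    obtain ⟨𝔭, -, rfl⟩ := Finset.mem_image.1 hf
    exact hΦ0 _ _
  · let J : Ideal (MvPolynomial σ k) := RingHom.ker (eval t)
    haveI : J.IsPrime := RingHom.ker_isPrime _
    obtain ⟨𝔭, hp, hpJ⟩ := Ideal.exists_minimalPrimes_le (I := I) (J := J) (Ideal.span_le.2 (by
      rintro _ ⟨i, rfl⟩; exact ht i))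
    have hmem : 𝔭 ∈ hfin.toFinset := hfin.mem_toFinset.2 ⟨hp, fun hh => hth (hpJ hh)⟩
    refine ⟨Φ 𝔭 hmem, Finset.mem_image.2 ⟨⟨𝔭, hmem⟩, Finset.mem_attach _ _, rfl⟩, ?_⟩
    have h1 : eval t (aeval y (Φ 𝔭 hmem)) = 0 := hpJ (hΦ 𝔭 hmem)
    rw [aeval_def, hom_eval₂] at h1
    rw [eval, coe_eval₂Hom, ← h1]
    congr 1
    ext c; simp

theorem generic_empty (hN : N < n) : ∃ Φ : MvPolynomial (Fin n) k, Φ ≠ 0 ∧
    ∀ t : σ → k, (∀ i, eval t (g i) = 0) → eval t h ≠ 0 → eval (fun j => t (pr j)) Φ = 0 := by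
  obtain ⟨S, hS0, hS⟩ := component_dependent g h N htan (κ := Fin n) (by simpa using hN) (fun j => X (pr j))
  refine ⟨∏ f ∈ S, f, Finset.prod_ne_zero_iff.2 hS0, fun t ht hth => ?_⟩
  obtain ⟨f, hf, hf0⟩ := hS t ht hth
  rw [map_prod]
  exact Finset.prod_eq_zero hf (by simpa using hf0)

theorem generic_finite (hN : N ≤ n) : ∃ Φ : MvPolynomial (Fin n) k, Φ ≠ 0 ∧
    ∀ P : Fin n → k, eval P Φ ≠ 0 →
      {t : σ → k | (∀ i, eval t (g i) = 0) ∧ eval t h ≠ 0 ∧ ∀ j, t (pr j) = P j}.Finite := by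
  classical
  have hx : ∀ x : σ, ∃ S : Finset (MvPolynomial (Option (Fin n)) k), (∀ f ∈ S, f ≠ 0) ∧
      ∀ t : σ → k, (∀ i, eval t (g i) = 0) → eval t h ≠ 0 →
        ∃ f ∈ S, eval (fun a : Option (Fin n) => eval t (a.elim (X x) fun j => X (pr j))) f = 0 :=
    fun x => component_dependent g h N htan (by simpa using Nat.lt_succ_of_le hN) _
  choose S hS0 hS using hx
  refine ⟨∏ x, ∏ f ∈ S x, (optionEquivLeft k (Fin n) f).leadingCoeff,
    Finset.prod_ne_zero_iff.2 fun x _ => Finset.prod_ne_zero_iff.2 fun f hf =>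
      Polynomial.leadingCoeff_ne_zero.2 (by simpa using hS0 x f hf), fun P hP => ?_⟩
  rw [map_prod, Finset.prod_ne_zero_iff] at hP
  have hfin : ∀ x, {z : k | ∃ f ∈ S x, ((optionEquivLeft k (Fin n) f).map (eval P)).eval z = 0}.Finite := by
    intro x
    have hPx := hP x (Finset.mem_univ x)
    rw [map_prod, Finset.prod_ne_zero_iff] at hPx
    have he : {z : k | ∃ f ∈ S x, ((optionEquivLeft k (Fin n) f).map (eval P)).eval z = 0} =
        ⋃ f ∈ S x, {z : k | ((optionEquivLeft k (Fin n) f).map (eval P)).IsRoot z} := by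
      ext z; simp
    rw [he]
    refine (S x).finite_toSet.biUnion fun f hf => Polynomial.finite_setOfPred_isRoot fun h0 => hPx f hf ?_
    have := congrArg (fun q => Polynomial.coeff q (optionEquivLeft k (Fin n) f).natDegree) h0
    simp only [Polynomial.coeff_map, Polynomial.coeff_zero] at this
    exact this
  refine (Set.Finite.pi hfin).subset fun t ht => Set.mem_univ_pi.2 fun x => ?_
  obtain ⟨ht1, hth, htP⟩ := ht
  obtain ⟨f, hf, hf0⟩ := hS x t ht1 hth
  refine ⟨f, hf, ?_⟩
  rw [← hf0, ← Polynomial.coe_evalRingHom]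
  have : ((Polynomial.evalRingHom (t x)).comp (Polynomial.mapRingHom (eval P))).comp
      (optionEquivLeft k (Fin n)).toRingEquiv.toRingHom =
      eval (fun a : Option (Fin n) => eval t (a.elim (X x) fun j => X (pr j))) := by
    refine MvPolynomial.ringHom_ext (fun c => ?_) (fun o => ?_)
    · simp
    · cases o with
      | none => simp [optionEquivLeft_X_none]
      | some a => simp [optionEquivLeft_X_some, htP]
  exact RingHom.congr_fun this f

end Groth.Agent.Ram15
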