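import Groth.Agent.Ram15.Chart

/-! Rational functions with prescribed tame ramification at general points are finite in number. -/

open Polynomial

namespace Groth.Agent.Ram15

universe u
variable {k : Type u} [Field k] {d n : ℕ} {pa pb : Fin (d + 1)}

theorem dvd_of_comp {y : k[X]} {P : k} {e : ℕ} (h : X ^ e ∣ y.comp (X + C P)) : (X - C P) ^ e ∣ y := by
  have h1 := map_dvd (compRingHom (X - C P)) h
  simp only [coe_compRingHom_apply, pow_comp, X_comp, comp_assoc, add_comp, C_comp, sub_add_cancel,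
    comp_X] at h1
  exact h1

theorem comp_of_dvd {y : k[X]} {P : k} {e : ℕ} (h : (X - C P) ^ e ∣ y) : X ^ e ∣ y.comp (X + C P) := by
  have h1 := map_dvd (compRingHom (X + C P)) h
  simp only [coe_compRingHom_apply, pow_comp, X_comp, sub_comp, C_comp, add_sub_cancel_right] at h1
  exact h1

section Chart

variable (pa pb)

/-- The coordinates. -/
noncomputable abbrev uX : Var n pa pb → MvPolynomial (Var n pa pb) k := MvPolynomial.X

/-- Vanishing conditions; the last equation identifies two moving members. -/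
noncomputable def eqn (e : Fin n → ℕ) (ch : Fin n → Bool) (drop : Option (Fin n × Fin n)) :
    (Σ i, Fin (e i)) ⊕ Unit → MvPolynomial (Var n pa pb) k
  | Sum.inl x => ((uMem pa pb (uX pa pb) ch x.1).comp
      (X + C (MvPolynomial.X (Sum.inr (Sum.inl x.1))))).coeff (x.2 : ℕ)
  | Sum.inr _ => drop.elim 0 fun p =>
      MvPolynomial.X (Sum.inr (Sum.inr p.1)) - MvPolynomial.X (Sum.inr (Sum.inr p.2))

/-- The open conditions. -/
noncomputable def hOpen (e : Fin n → ℕ) (ch : Fin n → Bool) : MvPolynomial (Var n pa pb) k :=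
  resultant (uPoly pa pb (uX pa pb) pa false) (uPoly pa pb (uX pa pb) pb true) d d *
    (∏ i, ((uMem pa pb (uX pa pb) ch i).comp
      (X + C (MvPolynomial.X (Sum.inr (Sum.inl i))))).coeff (e i)) *
    ∏ i, ∏ j ∈ Finset.univ.erase i,
      (MvPolynomial.X (Sum.inr (Sum.inl i)) - MvPolynomial.X (Sum.inr (Sum.inl j)))

variable {pa pb}

theorem eval_uPoly (t : Var n pa pb → k) (pp : Fin (d + 1)) (b : Bool) :
    (uPoly pa pb (uX (k := k) pa pb) pp b).map (MvPolynomial.eval t) = uPoly pa pb t pp b := by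
  rw [uPoly_map]; simp

theorem eval_comp_coeff (t : Var n pa pb → k) (ch : Fin n → Bool) (i : Fin n) (j : ℕ) :
    MvPolynomial.eval t (((uMem pa pb (uX (k := k) pa pb) ch i).comp
      (X + C (MvPolynomial.X (Sum.inr (Sum.inl i))))).coeff j) =
      ((uMem pa pb t ch i).comp (X + C (t (Sum.inr (Sum.inl i))))).coeff j := by
  rw [← coeff_map, Polynomial.map_comp, uMem_map]; simp

theorem Theta_Xpow_snd (t δ : Var n pa pb → k) (m : ℕ) :
    TrivSqZeroExt.snd (Theta t δ (X ^ m)) = 0 := by
  induction m with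
  | zero => simp
  | succ m ih => rw [pow_succ, Theta_mul_snd, ih, Theta_X_snd]; simp

theorem Theta_CX_snd (t δ : Var n pa pb → k) (v : Var n pa pb) :
    TrivSqZeroExt.snd (Theta t δ (C (MvPolynomial.X v))) = C (δ v) := by
  simp [Theta, theta]

theorem Theta_uPoly (t δ : Var n pa pb → k) (pp : Fin (d + 1)) (b : Bool) :
    TrivSqZeroExt.snd (Theta t δ (uPoly pa pb (uX (k := k) pa pb) pp b)) = dPoly b δ := by
  rw [uPoly, map_add, TrivSqZeroExt.snd_add, Theta_Xpow_snd, zero_add, map_sum,
    TrivSqZeroExt.snd_sum, dPoly_apply]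
  refine Finset.sum_congr rfl fun c _ => ?_
  rw [Theta_mul_snd, Theta_Xpow_snd, Theta_CX_snd]
  simp only [Polynomial.map_pow, Polynomial.map_X, mul_zero, zero_add]
  ring

theorem tangent_bound [DecidableEq (Free pa pb)] (hd : 1 ≤ d) (hab : pa ≠ pb) (e : Fin n → ℕ)
    (he2 : ∀ i, 2 ≤ e i) (he : ∀ i, ((e i : ℕ) : k) ≠ 0) (hsum : (∑ i, e i) + 2 = 2 * d + n)
    (ch : Fin n → Bool) (drop : Option (Fin n × Fin n))
    (hdrop : ∀ p, drop = some p → p.1 ≠ p.2 ∧ ch p.1 = ch p.2)
    (t : Var n pa pb → k) (h0 : ∀ x, MvPolynomial.eval t (eqn pa pb e ch drop x) = 0)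
    (hh : MvPolynomial.eval t (hOpen pa pb e ch) ≠ 0) (T : Submodule k (Var n pa pb → k))
    (hT : ∀ δ ∈ T, ∀ x, ∑ v, δ v * MvPolynomial.eval t (MvPolynomial.pderiv v (eqn pa pb e ch drop x)) = 0) :
    Module.finrank k T ≤ n - (if drop.isSome then 1 else 0) := by
  classical
  rw [hOpen, map_mul, map_mul, map_prod, map_prod, mul_ne_zero_iff, mul_ne_zero_iff,
    Finset.prod_ne_zero_iff, Finset.prod_ne_zero_iff] at hh
  obtain ⟨⟨hres, hcoef⟩, hdist⟩ := hh
  rw [← resultant_map_map, eval_uPoly, eval_uPoly] at hres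
  have hP : Function.Injective fun i => t (Sum.inr (Sum.inl i)) := by
    intro i j hij
    by_contra hne
    have := hdist i (Finset.mem_univ _)
    rw [map_prod, Finset.prod_ne_zero_iff] at this
    exact this j (Finset.mem_erase.2 ⟨Ne.symm hne, Finset.mem_univ _⟩) (by simp only [map_sub, MvPolynomial.eval_X]; exact sub_eq_zero.2 hij)
  have hFa : (uPoly pa pb t pa false).coeff pa = 1 := by rw [uPoly_coeff_pivot t pa false pa (Or.inl rfl), if_pos rfl]
  have hFb : (uPoly pa pb t pa false).coeff pb = 0 := by rw [uPoly_coeff_pivot t pa false pb (Or.inr rfl), if_neg hab.symm]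
  have hGa : (uPoly pa pb t pb true).coeff pa = 0 := by rw [uPoly_coeff_pivot t pb true pa (Or.inl rfl), if_neg hab]
  have hGb : (uPoly pa pb t pb true).coeff pb = 1 := by rw [uPoly_coeff_pivot t pb true pb (Or.inr rfl), if_pos rfl]
  have hmain := finrank_tangent_le (k := k) hd (fun i => t (Sum.inr (Sum.inl i))) hP e he2 he hsum
    (uPoly pa pb t pa false) (uPoly pa pb t pb true) (uPoly_natDegree t pa false) (uPoly_natDegree t pb true)
    ((resultant_ne_zero_iff _ _ (uPoly_natDegree t pa false) (uPoly_natDegree t pb true)).1 hres)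
    pa pb hab hFa hFb hGa hGb ch (fun i => t (Sum.inr (Sum.inr i)))
    (fun i => dvd_of_comp (X_pow_dvd_iff.2 fun j hj => by
      rw [show (((bif ch i then uPoly pa pb t pb true else uPoly pa pb t pa false) +
          C (t (Sum.inr (Sum.inr i))) * (bif ch i then uPoly pa pb t pa false else uPoly pa pb t pb true))) =
        uMem pa pb t ch i from rfl, ← eval_comp_coeff]
      exact h0 (Sum.inl ⟨i, ⟨j, hj⟩⟩)))
    (fun i => by
      rw [show (((bif ch i then uPoly pa pb t pb true else uPoly pa pb t pa false) +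
          C (t (Sum.inr (Sum.inr i))) * (bif ch i then uPoly pa pb t pa false else uPoly pa pb t pb true))) =
        uMem pa pb t ch i from rfl, ← eval_comp_coeff]
      exact hcoef i (Finset.mem_univ _))
    T (dPoly false) (dPoly true) (fun i => LinearMap.proj (Sum.inr (Sum.inl i)))
    (fun i => LinearMap.proj (Sum.inr (Sum.inr i)))
    (fun v _ => dPoly_spec false v) (fun v _ => dPoly_spec true v)
    (fun δ hδ i => dvd_of_comp (X_pow_dvd_iff.2 fun j hj => by
      have h := hT δ hδ (Sum.inl ⟨i, ⟨j, hj⟩⟩)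
      simp only [eqn] at h
      rw [← Theta_coeff, Theta_comp_snd] at h
      refine Eq.trans ?_ h
      congr 1
      rw [Polynomial.map_add, Polynomial.map_X, Polynomial.map_C, MvPolynomial.eval_X, map_add (Theta t δ),
        TrivSqZeroExt.snd_add, Theta_X_snd, zero_add, Theta_CX_snd, uMem_map]
      simp only [MvPolynomial.eval_X, LinearMap.proj_apply]
      rw [show (fun x => t x) = t from rfl, add_comp, mul_comp, C_comp, ← show uMem pa pb t ch i =
        (bif ch i then uPoly pa pb t pb true else uPoly pa pb t pa false) +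
          C (t (Sum.inr (Sum.inr i))) * (bif ch i then uPoly pa pb t pa false else uPoly pa pb t pb true)
        from rfl]
      rw [mul_comm (C (δ (Sum.inr (Sum.inl i))))]
      congr 1
      congr 1
      cases hc : ch i <;>
        simp [uMem, hc, map_add, Theta_uPoly, Theta_mul_snd, Theta_CX_snd, Theta_fst, uX, eval_uPoly, Polynomial.map_C] <;> ring))
    (fun δ _ hF hG h1 h2 => by
      funext v
      rcases v with ⟨b, c⟩ | (i | i)
      · cases b
        · exact (dPoly_coeff false δ c).symm.trans (by rw [hF]; simp)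
        · exact (dPoly_coeff true δ c).symm.trans (by rw [hG]; simp)
      · exact h1 i
      · exact h2 i)
    drop (fun p hp => by
      subst hp
      have hw : t (Sum.inr (Sum.inr p.1)) = t (Sum.inr (Sum.inr p.2)) := by
        have := h0 (Sum.inr ())
        simpa [eqn, sub_eq_zero] using this
      refine ⟨(hdrop p rfl).1, (hdrop p rfl).2, hw, fun δ hδ => ?_⟩
      have := hT δ hδ (Sum.inr ())
      simp only [eqn, Option.elim, map_sub, mul_sub, Finset.sum_sub_distrib, MvPolynomial.pderiv_X,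
        sub_eq_zero] at this
      simpa [Pi.single_apply, apply_ite (MvPolynomial.eval t), Finset.sum_ite_eq] using this)
  omega

end Chart

theorem exists_normal_basis {V : Submodule k k[X]} (hle : V ≤ degreeLE k d) (h2 : Module.finrank k V = 2) :
    ∃ pa pb : Fin (d + 1), pa ≠ pb ∧ ∃ F ∈ V, ∃ G ∈ V, F.coeff pa = 1 ∧ F.coeff pb = 0 ∧
      G.coeff pa = 0 ∧ G.coeff pb = 1 ∧ Submodule.span k {F, G} = V := by
  haveI : FiniteDimensional k V := Module.finite_of_finrank_eq_succ h2
  have hdeg : ∀ s ∈ V, s.natDegree ≤ d := fun s hs =>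
    natDegree_le_iff_degree_le.2 (mem_degreeLE.1 (hle hs))
  obtain ⟨s1, hs1, hs10⟩ := Submodule.exists_mem_ne_zero_of_ne_bot (p := V) fun h => by
    rw [h, finrank_bot] at h2; omega
  let pa : Fin (d + 1) := ⟨s1.natDegree, Nat.lt_succ_of_le (hdeg s1 hs1)⟩
  have h1 : s1.coeff pa ≠ 0 := leadingCoeff_ne_zero.2 hs10
  obtain ⟨s2, hs2, hs20, hs2a⟩ : ∃ s2 ∈ V, s2 ≠ 0 ∧ s2.coeff pa = 0 := by
    by_contra h
    push Not at h
    let L : V →ₗ[k] k := (lcoeff k (pa : ℕ)).comp V.subtype
    have hL : Function.Injective L := by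
      rw [injective_iff_map_eq_zero]
      intro v hv
      by_contra hv0
      exact h v v.2 (fun h0 => hv0 (Subtype.ext h0)) hv
    have := LinearMap.finrank_le_finrank_of_injective hL
    rw [h2, Module.finrank_self] at this
    omega
  let pb : Fin (d + 1) := ⟨s2.natDegree, Nat.lt_succ_of_le (hdeg s2 hs2)⟩
  have h2' : s2.coeff pb ≠ 0 := leadingCoeff_ne_zero.2 hs20
  have hab : pa ≠ pb := fun h => h2' (h ▸ hs2a)
  let G := (s2.coeff pb)⁻¹ • s2
  let F := (s1.coeff pa)⁻¹ • (s1 - (s1.coeff pb) • G)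
  have hGV : G ∈ V := V.smul_mem _ hs2
  have hFV : F ∈ V := V.smul_mem _ (V.sub_mem hs1 (V.smul_mem _ hGV))
  have hGa : G.coeff pa = 0 := by simp [G, hs2a]
  have hGb : G.coeff pb = 1 := by simp [G, h2']
  have hFa : F.coeff pa = 1 := by simp [F, hGa, h1]
  have hFb : F.coeff pb = 0 := by simp [F, hGb]
  refine ⟨pa, pb, hab, F, hFV, G, hGV, hFa, hFb, hGa, hGb, ?_⟩
  refine Submodule.eq_of_le_of_finrank_le (Submodule.span_le.2 ?_) ?_
  · rintro x (rfl | rfl) <;> assumption
  · rw [h2]
    have hli : LinearIndependent k ![F, G] := by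
      rw [LinearIndependent.pair_iff]
      intro a b h
      have ha := congrArg (fun q => q.coeff (pa : ℕ)) h
      have hb := congrArg (fun q => q.coeff (pb : ℕ)) h
      simp [hFa, hFb, hGa, hGb] at ha hb
      exact ⟨ha, hb⟩
    have := finrank_span_eq_card hli
    rw [Matrix.range_cons, Matrix.range_cons, Matrix.range_empty, Set.union_empty,
      Set.singleton_union, Fintype.card_fin] at this
    rw [this]

/-- The member normalised from its coordinates in the basis: chart and slope. -/
noncomputable def slope (x y : k) : Bool × k :=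
  open scoped Classical in if x = 0 then (true, 0) else (false, y / x)

theorem slope_smul (x y c : k) (hc : c ≠ 0) : slope (c * x) (c * y) = slope x y := by
  by_cases hx : x = 0
  · simp [slope, hx]
  · rw [slope, slope, if_neg (mul_ne_zero hc hx), if_neg hx, mul_div_mul_left _ _ hc]

theorem main [IsAlgClosed k] (p : ℕ) [CharP k p] (d n : ℕ) (e : Fin n → ℕ)
    (he : W4c1limliniiii.Admissible p d e) :
    ∃ Φ : MvPolynomial (Fin n) k, Φ ≠ 0 ∧ ∀ P : Fin n → k, MvPolynomial.eval P Φ ≠ 0 →
      (W4c1limliniiii.ramMaps d P e).Finite ∧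
        ∀ V ∈ W4c1limliniiii.ramMaps d P e, ∀ i j : Fin n, i ≠ j →
          ∀ s ∈ V, (s.IsRoot (P i) ∧ s.IsRoot (P j)) → s = 0 := by
  classical
  obtain ⟨he1, hsum⟩ := he
  have he2 : ∀ i, 2 ≤ e i := fun i => (he1 i).1
  have hek : ∀ i, ((e i : ℕ) : k) ≠ 0 := fun i h => (he1 i).2.2 ((CharP.cast_eq_zero_iff k p _).1 h)
  have hd : 1 ≤ d := by
    rcases Nat.eq_zero_or_pos n with h | h
    · subst h; simp at hsum; omega
    · have := he1 ⟨0, h⟩; omega
  let Ix := {ab : Fin (d + 1) × Fin (d + 1) // ab.1 ≠ ab.2} × (Fin n → Bool)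
  let pr : ∀ x : Ix, Fin n → Var n x.1.1.1 x.1.1.2 := fun x i => Sum.inr (Sum.inl i)
  have hfin : ∀ x : Ix, _ := fun x => generic_finite (eqn x.1.1.1 x.1.1.2 e x.2 none)
    (hOpen x.1.1.1 x.1.1.2 e x.2) (pr x) (n - 0) (fun t ht hth T hT =>
      tangent_bound hd x.1.2 e he2 hek hsum x.2 none (fun _ h => by simp at h) t ht hth T hT) (Nat.sub_le n 0)
  choose Φ1 hΦ10 hΦ1 using hfin
  let Jx := {z : Ix × (Fin n × Fin n) // z.2.1 ≠ z.2.2 ∧ z.1.2 z.2.1 = z.1.2 z.2.2}
  have hemp : ∀ z : Jx, _ := fun z => generic_empty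
    (eqn z.1.1.1.1.1 z.1.1.1.1.2 e z.1.1.2 (some z.1.2))
    (hOpen z.1.1.1.1.1 z.1.1.1.1.2 e z.1.1.2) (pr z.1.1) (n - 1) (fun t ht hth T hT =>
      tangent_bound hd z.1.1.1.2 e he2 hek hsum z.1.1.2 (some z.1.2)
        (fun q h => by cases h; exact z.2) t ht hth T hT)
    (Nat.sub_lt (lt_of_le_of_lt (Nat.zero_le _) z.1.2.1.isLt) Nat.one_pos)
  choose Φ2 hΦ20 hΦ2 using hemp
  refine ⟨(∏ x, Φ1 x) * (∏ z, Φ2 z) * ∏ i : Fin n, ∏ j ∈ Finset.univ.erase i,
      (MvPolynomial.X i - MvPolynomial.X j), ?_, fun P hP => ?_⟩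
  · refine mul_ne_zero (mul_ne_zero (Finset.prod_ne_zero_iff.2 fun x _ => hΦ10 x)
      (Finset.prod_ne_zero_iff.2 fun z _ => hΦ20 z)) (Finset.prod_ne_zero_iff.2 fun i _ =>
        Finset.prod_ne_zero_iff.2 fun j hj => sub_ne_zero.2 fun h => (Finset.mem_erase.1 hj).1
          (MvPolynomial.X_injective h).symm)
  rw [map_mul, map_mul, map_prod, map_prod, map_prod, mul_ne_zero_iff, mul_ne_zero_iff,
    Finset.prod_ne_zero_iff, Finset.prod_ne_zero_iff, Finset.prod_ne_zero_iff] at hP
  obtain ⟨⟨hP1, hP2⟩, hP3⟩ := hP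
  have hPinj : ∀ i j, i ≠ j → P i - P j ≠ 0 := fun i j hij => by
    have := hP3 i (Finset.mem_univ _)
    rw [map_prod, Finset.prod_ne_zero_iff] at this
    simpa using this j (Finset.mem_erase.2 ⟨Ne.symm hij, Finset.mem_univ _⟩)
  -- members vanishing at a point form a line
  have hline : ∀ V, W4c1limliniiii.IsPencil d V → ∀ (a : k), ∀ u ∈ V, ∀ v ∈ V, u ≠ 0 →
      u.eval a = 0 → v.eval a = 0 → ∃ c : k, v = C c * u := by
    intro V hV a u hu v hv hu0 hua hva
    by_contra hc
    push Not at hc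
    haveI : FiniteDimensional k V := Module.finite_of_finrank_eq_succ hV.2.1
    have hli : LinearIndependent k ![u, v] := by
      rw [LinearIndependent.pair_iff]
      intro x y h
      have hy : y = 0 := by
        by_contra hy
        refine hc (-x / y) ?_
        rw [← smul_eq_C_mul]
        have : y • v = -(x • u) := eq_neg_of_add_eq_zero_right h
        rw [neg_div, neg_smul, div_eq_inv_mul, mul_smul, ← smul_neg, ← this, smul_smul,
          inv_mul_cancel₀ hy, one_smul]
      subst hy
      simp [hu0] at h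
      exact ⟨h, rfl⟩
    have hsp : Submodule.span k {u, v} = V := by
      refine Submodule.eq_of_le_of_finrank_le (Submodule.span_le.2 ?_) ?_
      · rintro x (rfl | rfl) <;> assumption
      · rw [hV.2.1]
        have := finrank_span_eq_card hli
        rw [Matrix.range_cons, Matrix.range_cons, Matrix.range_empty, Set.union_empty,
          Set.singleton_union, Fintype.card_fin] at this
        rw [this]
    obtain ⟨q, hq, hqa⟩ := hV.2.2.2 a
    rw [← hsp, Submodule.mem_span_pair] at hq
    obtain ⟨x, y, rfl⟩ := hq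
    exact hqa (by simp [hua, hva])
  -- every map gives a point of some chart
  have key : ∀ V ∈ W4c1limliniiii.ramMaps d P e, ∃ (x : Ix) (t : Var n x.1.1.1 x.1.1.2 → k),
      (∀ z, MvPolynomial.eval t (eqn x.1.1.1 x.1.1.2 e x.2 none z) = 0) ∧
      MvPolynomial.eval t (hOpen x.1.1.1 x.1.1.2 e x.2) ≠ 0 ∧ (∀ i, t (pr x i) = P i) ∧
      Submodule.span k {uPoly x.1.1.1 x.1.1.2 t x.1.1.1 false, uPoly x.1.1.1 x.1.1.2 t x.1.1.2 true} = V ∧
      ∀ i j, i ≠ j → (∃ s ∈ V, s ≠ 0 ∧ s.eval (P i) = 0 ∧ s.eval (P j) = 0) →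
        x.2 i = x.2 j ∧ t (Sum.inr (Sum.inr i)) = t (Sum.inr (Sum.inr j)) := by
    intro V hV
    obtain ⟨hpen, -, hram⟩ := hV
    obtain ⟨pa, pb, hab, F, hFV, G, hGV, hFa, hFb, hGa, hGb, hsp⟩ := exists_normal_basis hpen.1 hpen.2.1
    choose sm hsmV hsm0 hsme using fun i => (hram i).1
    have hcoord : ∀ v ∈ V, v = C (v.coeff pa) * F + C (v.coeff pb) * G := by
      intro v hv
      rw [← hsp, Submodule.mem_span_pair] at hv
      obtain ⟨x, y, rfl⟩ := hv
      simp [hFa, hFb, hGa, hGb, smul_eq_C_mul]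
    let sl : Fin n → Bool × k := fun i => slope ((sm i).coeff pa) ((sm i).coeff pb)
    let ch : Fin n → Bool := fun i => (sl i).1
    let t : Var n pa pb → k := fun v => match v with
      | Sum.inl (false, c) => F.coeff c.1
      | Sum.inl (true, c) => G.coeff c.1
      | Sum.inr (Sum.inl i) => P i
      | Sum.inr (Sum.inr i) => (sl i).2
    have hu : ∀ (Q : k[X]) (pp : Fin (d + 1)) (b : Bool), Q.natDegree ≤ d → (pp = pa ∨ pp = pb) →
        (∀ q, q = pa ∨ q = pb → Q.coeff (q : ℕ) = if q = pp then 1 else 0) →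
        (∀ c : Free pa pb, t (Sum.inl (b, c)) = Q.coeff c.1) → uPoly pa pb t pp b = Q := by
      intro Q pp b hQ hpp hpiv hc
      refine Polynomial.ext fun m => ?_
      by_cases hm : m ≤ d
      · let q : Fin (d + 1) := ⟨m, Nat.lt_succ_of_le hm⟩
        by_cases hq : q = pa ∨ q = pb
        · exact (uPoly_coeff_pivot t pp b q hq).trans (hpiv q hq).symm
        · push Not at hq
          rw [uPoly, coeff_add, coeff_X_pow, if_neg, zero_add, finsetSum_coeff,
            Finset.sum_eq_single ⟨q, hq⟩]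
          · rw [coeff_C_mul, coeff_X_pow, if_pos rfl, mul_one, hc]
          · intro c _ hne
            rw [coeff_C_mul, coeff_X_pow, if_neg, mul_zero]
            exact fun h => hne (Subtype.ext (Fin.ext h.symm))
          · simp
          · intro h
            rcases hpp with h' | h'
            · exact hq.1 (Fin.ext (h.trans (congrArg Fin.val h')))
            · exact hq.2 (Fin.ext (h.trans (congrArg Fin.val h')))
      · rw [coeff_eq_zero_of_natDegree_lt ((uPoly_natDegree t pp b).trans_lt (by omega)),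
          coeff_eq_zero_of_natDegree_lt (by omega)]
    have hdeg : ∀ v ∈ V, v.natDegree ≤ d := fun v hv => natDegree_le_iff_degree_le.2 (mem_degreeLE.1 (hpen.1 hv))
    have hF : uPoly pa pb t pa false = F := hu F pa false (hdeg F hFV) (Or.inl rfl)
      (fun q hq => by rcases hq with rfl | rfl <;> simp [hFa, hFb, hab.symm]) (fun c => rfl)
    have hG : uPoly pa pb t pb true = G := hu G pb true (hdeg G hGV) (Or.inr rfl)
      (fun q hq => by rcases hq with rfl | rfl <;> simp [hGa, hGb, hab]) (fun c => rfl)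
    have hmem : ∀ i, ∃ c : k, c ≠ 0 ∧ uMem pa pb t ch i = C c * sm i := by
      intro i
      have hc := hcoord _ (hsmV i)
      by_cases hx : (sm i).coeff pa = 0
      · have hy : (sm i).coeff pb ≠ 0 := fun hy => hsm0 i (by rw [hc, hx, hy]; simp)
        refine ⟨((sm i).coeff pb)⁻¹, inv_ne_zero hy, ?_⟩
        rw [show C ((sm i).coeff pb)⁻¹ * sm i = _ from congrArg (C ((sm i).coeff pb)⁻¹ * ·) hc, hx]
        simp only [uMem, hF, hG]
        simp only [ch, sl, slope, if_pos hx, cond_true, t, map_zero, zero_mul, zero_add]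
        rw [← mul_assoc, ← map_mul, inv_mul_cancel₀ hy, map_one, one_mul, add_zero]
      · refine ⟨((sm i).coeff pa)⁻¹, inv_ne_zero hx, ?_⟩
        rw [show C ((sm i).coeff pa)⁻¹ * sm i = _ from congrArg (C ((sm i).coeff pa)⁻¹ * ·) hc]
        simp only [uMem, hF, hG]
        simp only [ch, sl, slope, if_neg hx, cond_false, t]
        rw [mul_add, ← mul_assoc, ← mul_assoc, ← map_mul, ← map_mul, inv_mul_cancel₀ hx, map_one, one_mul,
          div_eq_inv_mul]
    refine ⟨(⟨(pa, pb), hab⟩, ch), t, ?_, ?_, fun i => rfl, by rw [hF, hG]; exact hsp, ?_⟩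
    · rintro (⟨i, j⟩ | u)
      · show MvPolynomial.eval t _ = 0
        rw [eqn, eval_comp_coeff]
        obtain ⟨c, -, hc⟩ := hmem i
        have h1 : (X - C (P i)) ^ e i ∣ uMem pa pb t ch i :=
          hc ▸ ((le_rootMultiplicity_iff (hsm0 i)).1 (hsme i)).mul_left (C c)
        exact X_pow_dvd_iff.1 (comp_of_dvd h1) j j.isLt
      · simp [eqn]
    · rw [hOpen, map_mul, map_mul, map_prod, map_prod, mul_ne_zero_iff, mul_ne_zero_iff,
        Finset.prod_ne_zero_iff, Finset.prod_ne_zero_iff, ← resultant_map_map, eval_uPoly, eval_uPoly]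
      refine ⟨⟨?_, fun i _ => ?_⟩, fun i _ => ?_⟩
      · rw [hF, hG, resultant_ne_zero_iff _ _ (hdeg F hFV) (hdeg G hGV)]
        intro a b ha hb hab'
        have hcop : IsCoprime F G := by
          by_contra hnc
          obtain ⟨z, hzF, hzG⟩ : ∃ z, F.eval z = 0 ∧ G.eval z = 0 := by
            by_contra hz
            push Not at hz
            refine hnc ((EuclideanDomain.gcd_isUnit_iff (x := F) (y := G)).1 ?_)
            by_contra hu
            have hne : EuclideanDomain.gcd F G ≠ 0 := fun h0 => by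
              rw [EuclideanDomain.gcd_eq_zero_iff] at h0
              rw [h0.1, coeff_zero] at hFa; exact zero_ne_one hFa
            obtain ⟨z, hz'⟩ := IsAlgClosed.exists_root (EuclideanDomain.gcd F G) fun h0 =>
              hu (Polynomial.isUnit_iff_degree_eq_zero.2 h0)
            exact hz z (eval_eq_zero_of_dvd_of_eval_eq_zero (EuclideanDomain.gcd_dvd_left F G) hz')
              (eval_eq_zero_of_dvd_of_eval_eq_zero (EuclideanDomain.gcd_dvd_right F G) hz')
          obtain ⟨q, hq, hqz⟩ := hpen.2.2.2 z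
          rw [← hsp, Submodule.mem_span_pair] at hq
          obtain ⟨x, y, rfl⟩ := hq
          exact hqz (by simp [hzF, hzG])
        have hFa' : F ∣ a := hcop.dvd_of_dvd_mul_left ⟨-b, by linear_combination hab'⟩
        have hGb' : G ∣ b := hcop.symm.dvd_of_dvd_mul_left ⟨-a, by linear_combination hab'⟩
        have hlt : ∀ Q q : k[X], Q ∣ q → q ∈ degreeLT k d → Q.natDegree = d → q = 0 := by
          intro Q q hQq hq hQ
          by_contra hq0
          have h1 := natDegree_le_of_dvd hQq hq0
          rw [mem_degreeLT, degree_eq_natDegree hq0] at hq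
          have : q.natDegree < d := by exact_mod_cast hq
          omega
        have hF0 : F ≠ 0 := fun h => by simp [h] at hFa
        have hG0 : G ≠ 0 := fun h => by simp [h] at hGb
        obtain ⟨q, hq, hqd⟩ := hpen.2.2.1
        rcases eq_or_ne F.natDegree d with h | h
        · have ha0 := hlt F a hFa' ha h
          rw [ha0, mul_zero, add_zero, mul_eq_zero] at hab'
          exact ⟨ha0, hab'.resolve_left hF0⟩
        · have hGd : G.natDegree = d := by
            by_contra hG'
            rw [← hsp, Submodule.mem_span_pair] at hq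
            obtain ⟨x, y, rfl⟩ := hq
            have := hdeg F hFV; have := hdeg G hGV
            have h1 := natDegree_add_le (x • F) (y • G)
            have h2 := natDegree_smul_le x F
            have h3 := natDegree_smul_le y G
            omega
          have hb0 := hlt G b hGb' hb hGd
          rw [hb0, mul_zero, zero_add, mul_eq_zero] at hab'
          exact ⟨hab'.resolve_left hG0, hb0⟩
      · rw [eval_comp_coeff]
        obtain ⟨c, hc0, hc⟩ := hmem i
        rw [hc, mul_comp, C_comp, coeff_C_mul]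
        refine mul_ne_zero hc0 fun h => ?_
        have hdvd : X ^ e i ∣ (sm i).comp (X + C (P i)) :=
          comp_of_dvd ((le_rootMultiplicity_iff (hsm0 i)).1 (hsme i))
        have h1 : X ^ (e i + 1) ∣ (sm i).comp (X + C (P i)) := X_pow_dvd_iff.2 fun j hj => by
          rcases Nat.lt_succ_iff_lt_or_eq.1 hj with hj | rfl
          · exact X_pow_dvd_iff.1 hdvd j hj
          · exact h
        have h2 := (le_rootMultiplicity_iff (hsm0 i)).2 (dvd_of_comp h1)
        have h3 := (hram i).2 _ (hsmV i) (hsm0 i)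
        omega
      · rw [map_prod, Finset.prod_ne_zero_iff]
        intro j hj
        simpa [t] using hPinj i j (Ne.symm (Finset.mem_erase.1 hj).1)
    · rintro i j hij ⟨s, hs, hs0, hsi, hsj⟩
      have hev : ∀ l, (sm l).eval (P l) = 0 := fun l => by
        have h := (le_rootMultiplicity_iff (hsm0 l)).1 (hsme l)
        have := he2 l
        exact dvd_iff_isRoot.1 ((dvd_pow_self _ (by omega)).trans h)
      obtain ⟨c1, h1⟩ := hline V hpen (P i) s hs (sm i) (hsmV i) hs0 hsi (hev i)
      obtain ⟨c2, h2⟩ := hline V hpen (P j) s hs (sm j) (hsmV j) hs0 hsj (hev j)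
      have hc1 : c1 ≠ 0 := fun h => hsm0 i (by rw [h1, h, map_zero, zero_mul])
      have hc2 : c2 ≠ 0 := fun h => hsm0 j (by rw [h2, h, map_zero, zero_mul])
      have : sl i = sl j := by
        show slope _ _ = slope _ _
        rw [h1, h2, coeff_C_mul, coeff_C_mul, coeff_C_mul, coeff_C_mul, slope_smul _ _ _ hc1,
          slope_smul _ _ _ hc2]
      exact ⟨congrArg Prod.fst this, congrArg Prod.snd this⟩
  refine ⟨?_, fun V hV i j hij s hs hroot => ?_⟩
  · refine (Set.finite_iUnion fun x => (hΦ1 x P (hP1 x (Finset.mem_univ _))).image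
      (fun t : Var n x.1.1.1 x.1.1.2 → k => Submodule.span k
        {uPoly x.1.1.1 x.1.1.2 t x.1.1.1 false, uPoly x.1.1.1 x.1.1.2 t x.1.1.2 true})).subset fun V hV => ?_
    obtain ⟨x, t, ht, hth, htP, hsp, -⟩ := key V hV
    exact Set.mem_iUnion.2 ⟨x, t, ⟨ht, hth, htP⟩, hsp⟩
  · by_contra hs0
    obtain ⟨x, t, ht, hth, htP, -, hpair⟩ := key V hV
    obtain ⟨hch, hw⟩ := hpair i j hij ⟨s, hs, hs0, hroot.1, hroot.2⟩
    let z : Jx := ⟨(x, (i, j)), hij, hch⟩
    refine hP2 z (Finset.mem_univ _) ?_
    have h := hΦ2 z t (fun w => ?_) hth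
    · have : (fun l => t (pr z.1.1 l)) = P := funext htP
      rwa [this] at h
    · rcases w with w | w
      · exact ht (Sum.inl w)
      · show MvPolynomial.eval t (MvPolynomial.X _ - MvPolynomial.X _) = 0
        rw [map_sub, MvPolynomial.eval_X, MvPolynomial.eval_X, sub_eq_zero]
        exact hw

end Groth.Agent.Ram15
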