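import Mathlib
import Groth.Agent.CommAlg4.RamP1Three

/-!
Wronskians of pencils in characteristic `p`: local orders, top coefficients, exactness.
-/

set_option autoImplicit false

namespace Groth.Agent.Ram15.Wron

open Polynomial W4c1limliniiii

universe u

section Ring

variable {R : Type u} [CommRing R]

theorem coeff_X_mul_derivative (f : R[X]) (m : ℕ) :
    (X * derivative f).coeff m = (m : R) * f.coeff m := by
  cases m with
  | zero => simp
  | succ m => rw [coeff_X_mul, coeff_derivative]; push_cast; ring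

theorem natDegree_X_mul_derivative_le (f : R[X]) : (X * derivative f).natDegree ≤ f.natDegree :=
  natDegree_le_iff_coeff_eq_zero.2 fun m hm => by
    rw [coeff_X_mul_derivative, coeff_eq_zero_of_natDegree_lt hm, mul_zero]

theorem natDegree_X_mul_wronskian_le (F G : R[X]) :
    (X * wronskian F G).natDegree ≤ F.natDegree + G.natDegree := by
  have h : X * wronskian F G = F * (X * derivative G) - X * derivative F * G := by
    rw [wronskian]; ring
  rw [h]
  refine (natDegree_sub_le _ _).trans (max_le ?_ ?_)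
  · exact natDegree_mul_le.trans (add_le_add le_rfl (natDegree_X_mul_derivative_le G))
  · exact natDegree_mul_le.trans (add_le_add (natDegree_X_mul_derivative_le F) le_rfl)

theorem coeff_X_mul_wronskian {F G : R[X]} {a b : ℕ} (hF : F.natDegree ≤ a) (hG : G.natDegree ≤ b) :
    (X * wronskian F G).coeff (a + b) = ((b : R) - a) * (F.coeff a * G.coeff b) := by
  have h : X * wronskian F G = F * (X * derivative G) - X * derivative F * G := by
    rw [wronskian]; ring
  rw [h, coeff_sub, coeff_mul_add_eq_of_natDegree_le hF ((natDegree_X_mul_derivative_le G).trans hG),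
    coeff_mul_add_eq_of_natDegree_le ((natDegree_X_mul_derivative_le F).trans hF) hG,
    coeff_X_mul_derivative, coeff_X_mul_derivative]
  ring

theorem natDegree_wronskian_le_two {F G : R[X]} {D : ℕ} (hF : F.natDegree ≤ D + 1)
    (hG : G.natDegree ≤ D + 1) : (wronskian F G).natDegree ≤ 2 * D :=
  natDegree_le_iff_coeff_eq_zero.2 fun m hm => by
    rw [← coeff_X_mul]
    rcases Nat.lt_or_ge (D + 1 + (D + 1)) (m + 1) with h | h
    · exact coeff_eq_zero_of_natDegree_lt
        (lt_of_le_of_lt ((natDegree_X_mul_wronskian_le F G).trans (add_le_add hF hG)) h)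
    · rw [show m + 1 = D + 1 + (D + 1) by omega, coeff_X_mul_wronskian hF hG]
      ring

theorem coeff_wronskian_two {F G : R[X]} {D : ℕ} (hF : F.natDegree ≤ D + 1)
    (hG : G.natDegree ≤ D + 1) :
    (wronskian F G).coeff (2 * D) = F.coeff D * G.coeff (D + 1) - F.coeff (D + 1) * G.coeff D := by
  have hsplit : ∀ H : R[X], H.natDegree ≤ D + 1 →
      (H - C (H.coeff (D + 1)) * X ^ (D + 1)).natDegree ≤ D := fun H hH =>
    natDegree_le_iff_coeff_eq_zero.2 fun m hm => by
      rw [coeff_sub, coeff_C_mul_X_pow]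
      split_ifs with h
      · rw [h, sub_self]
      · rw [coeff_eq_zero_of_natDegree_lt (by omega), sub_zero]
  set F0 := F - C (F.coeff (D + 1)) * X ^ (D + 1) with hF0
  set G0 := G - C (G.coeff (D + 1)) * X ^ (D + 1) with hG0
  set M : R[X] := X ^ (D + 1) with hM
  have hMd : M.natDegree ≤ D + 1 := natDegree_X_pow_le _
  have e : X * wronskian F G = C (G.coeff (D + 1)) * (X * wronskian F0 M) +
      C (F.coeff (D + 1)) * (X * wronskian M G0) + X * wronskian F0 G0 := by
    rw [show F = F0 + C (F.coeff (D + 1)) * M by rw [hF0]; ring]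
    conv_lhs => rw [show G = G0 + C (G.coeff (D + 1)) * M by rw [hG0]; ring]
    simp only [wronskian, derivative_add, derivative_C_mul, coeff_add, coeff_C_mul]
    rw [show F0.coeff (D + 1) = 0 from coeff_eq_zero_of_natDegree_lt (lt_of_le_of_lt (hsplit F hF) (Nat.lt_succ_self D))]
    simp [hM]
    ring
  rw [← coeff_X_mul, e, coeff_add, coeff_add, coeff_C_mul, coeff_C_mul,
    show 2 * D + 1 = D + (D + 1) by omega, coeff_X_mul_wronskian (hsplit F hF) hMd,
    show D + (D + 1) = (D + 1) + D by omega, coeff_X_mul_wronskian hMd (hsplit G hG),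
    coeff_eq_zero_of_natDegree_lt (p := X * wronskian F0 G0)
      (lt_of_le_of_lt ((natDegree_X_mul_wronskian_le F0 G0).trans
        (add_le_add (hsplit F hF) (hsplit G hG))) (by omega))]
  simp only [hF0, hG0, hM, coeff_sub, coeff_C_mul_X_pow, coeff_X_pow]
  simp
  ring

theorem L_mul_derivative_pow_mul (z : R) (g : ℕ) (m : R[X]) :
    (X - C z) * derivative ((X - C z) ^ g * m) =
      (X - C z) ^ g * (C (g : R) * m + (X - C z) * derivative m) := by
  rw [derivative_mul]
  cases g with
  | zero => simp
  | succ g =>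
      rw [derivative_pow_succ, derivative_X_sub_C, mul_one]
      push_cast
      simp only [map_add, map_natCast, map_one]
      ring

end Ring

variable {k : Type u} [Field k]

theorem order_identity {W S H w u : k[X]} {z : k} {j g : ℕ} (hW : W = (X - C z) ^ j * w)
    (hS : S = (X - C z) ^ g * u) (hw : w.eval z ≠ 0) (hu : u.eval z ≠ 0)
    (hH : (X - C z) ^ (j - 1) ∣ H)
    (hQ : derivative W * derivative S - W * derivative (derivative S) = S * H) :
    (g : k) * ((j : k) + 1 - g) = 0 := by
  set L := X - C z with hL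
  set m := C (g : k) * u + L * derivative u with hm
  have h1 : L * derivative S = L ^ g * m := by rw [hS]; exact L_mul_derivative_pow_mul z g u
  have h0 : L * derivative W = L ^ j * (C (j : k) * w + L * derivative w) := by
    rw [hW]; exact L_mul_derivative_pow_mul z j w
  have h2 : L * (L * derivative (derivative S)) =
      L ^ g * ((C (g : k) - 1) * m + L * derivative m) := by
    have h := congrArg (fun q => L * derivative q) h1
    simp only [derivative_mul, hL, derivative_X_sub_C, one_mul] at h
    rw [← derivative_mul, L_mul_derivative_pow_mul z g m] at h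
    rw [mul_add, h1] at h
    linear_combination h
  obtain ⟨H', rfl⟩ := hH
  set Rr := (C (j : k) * w + L * derivative w) * m - w * ((C (g : k) - 1) * m + L * derivative m)
  have key : L ^ (g + j) * Rr = L * L * (S * (L ^ (j - 1) * H')) := by
    rw [← hQ]
    linear_combination -(L ^ g * m) * h0 - L * derivative W * h1 + W * h2 +
      L ^ g * ((C (g : k) - 1) * m + L * derivative m) * hW
  have hdvd : L ^ (g + j) * L ∣ L ^ (g + j) * Rr := by
    rw [key, hS, ← pow_succ]
    refine dvd_trans (pow_dvd_pow L (show g + j + 1 ≤ g + (2 + (j - 1)) by omega)) ?_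
    exact ⟨u * H', by ring⟩
  have hR : Rr.eval z = 0 := by
    obtain ⟨q, hq⟩ := (mul_dvd_mul_iff_left (pow_ne_zero _ (X_sub_C_ne_zero z))).1 hdvd
    simp [hq, hL]
  have : w.eval z * u.eval z * ((g : k) * ((j : k) + 1 - g)) = 0 := by
    rw [← hR]
    simp only [Rr, hm, hL, eval_sub, eval_mul, eval_add, eval_C, eval_X, eval_one]
    ring
  simpa [hw, hu] using this

theorem wronskian_order {s t : k[X]} {z : k} (hs : s ≠ 0) (ht : t.eval z ≠ 0) :
    (X - C z) ^ rootMultiplicity z s ∣ (X - C z) * wronskian s t ∧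
      ((rootMultiplicity z s : k) ≠ 0 →
        wronskian s t ≠ 0 ∧ rootMultiplicity z (wronskian s t) + 1 = rootMultiplicity z s) := by
  obtain ⟨u, hu, hnd⟩ := exists_eq_pow_rootMultiplicity_mul_and_not_dvd s hs z
  set r := rootMultiplicity z s
  set B := (X - C z) * u * derivative t - (C (r : k) * u + (X - C z) * derivative u) * t
  have h : (X - C z) * wronskian s t = (X - C z) ^ r * B := by
    rw [hu, wronskian]
    linear_combination -t * L_mul_derivative_pow_mul z r u
  refine ⟨⟨B, h⟩, fun hr => ?_⟩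
  have hB : B.eval z ≠ 0 := by
    have : u.eval z ≠ 0 := fun h0 => hnd (dvd_iff_isRoot.2 h0)
    simp [B, hr, this, ht]
  have hW : wronskian s t ≠ 0 := fun h0 => by
    rw [h0, mul_zero] at h
    rcases mul_eq_zero.1 h.symm with h' | h'
    · exact pow_ne_zero _ (X_sub_C_ne_zero z) h'
    · exact hB (by rw [h', eval_zero])
  refine ⟨hW, ?_⟩
  have h' := congrArg (rootMultiplicity z) h
  have hB0 : B ≠ 0 := fun h0 => hB (by rw [h0, eval_zero])
  rw [rootMultiplicity_mul (mul_ne_zero (X_sub_C_ne_zero z) hW),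
    rootMultiplicity_mul (mul_ne_zero (pow_ne_zero _ (X_sub_C_ne_zero z)) hB0),
    rootMultiplicity_X_sub_C_self, rootMultiplicity_X_sub_C_pow,
    rootMultiplicity_eq_zero (p := B) hB] at h'
  omega

theorem exists_adapted {F G : k[X]} {z : k} (hz : ¬(F.eval z = 0 ∧ G.eval z = 0))
    (hW : wronskian F G ≠ 0) :
    ∃ s t : k[X], s.eval z = 0 ∧ s ≠ 0 ∧ t.eval z ≠ 0 ∧
      s ∈ Submodule.span k ({F, G} : Set k[X]) ∧ t ∈ Submodule.span k ({F, G} : Set k[X]) ∧
      (∀ v ∈ Submodule.span k ({F, G} : Set k[X]), ∃ a b : k, v = a • s + b • t) ∧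
      ∃ c : k, c ≠ 0 ∧ wronskian s t = C c * wronskian F G := by
  wlog hG : G.eval z ≠ 0 generalizing F G
  · have hF : F.eval z ≠ 0 := fun h => hz ⟨h, not_not.1 hG⟩
    obtain ⟨s, t, h1, h2, h3, h4, h5, h6, c, hc, hw⟩ := this (F := G) (G := F) (fun h => hz h.symm)
      (fun h => hW (by rw [← wronskian_neg_eq, h, neg_zero])) hF
    rw [Set.pair_comm G F] at h4 h5 h6
    exact ⟨s, t, h1, h2, h3, h4, h5, h6, -c, neg_ne_zero.2 hc,
      by rw [hw, ← wronskian_neg_eq F G, map_neg]; ring⟩
  set a := F.eval z / G.eval z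
  refine ⟨F - a • G, G, by simp [a, hG], ?_, hG, ?_, Submodule.subset_span (by simp), ?_, 1,
    one_ne_zero, ?_⟩
  · intro h
    apply hW
    rw [sub_eq_zero] at h
    simp [h, wronskian, smul_eq_C_mul]
    ring
  · exact Submodule.mem_span_pair.2 ⟨1, -a, by rw [one_smul, neg_smul, sub_eq_add_neg]⟩
  · intro v hv
    obtain ⟨x, y, rfl⟩ := Submodule.mem_span_pair.1 hv
    refine ⟨x, x * a + y, ?_⟩
    simp only [smul_sub, add_smul, mul_smul]
    abel
  · simp [wronskian, smul_eq_C_mul, derivative_C_mul]
    ring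

theorem hasRamIdx_iff {p : ℕ} [CharP k p] {F G : k[X]} {z : k} {e : ℕ}
    (hz : ¬(F.eval z = 0 ∧ G.eval z = 0)) (hW : wronskian F G ≠ 0) (he : 2 ≤ e) (hep : e < p) :
    HasRamIdx (Submodule.span k ({F, G} : Set k[X])) z e ↔
      rootMultiplicity z (wronskian F G) + 1 = e := by
  obtain ⟨s, t, hsz, hs, htz, hsV, htV, hall, c, hc, hw⟩ := exists_adapted hz hW
  have hwm : rootMultiplicity z (wronskian s t) = rootMultiplicity z (wronskian F G) := by
    rw [hw, rootMultiplicity_mul (mul_ne_zero (C_ne_zero.2 hc) hW), rootMultiplicity_C, zero_add]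
  set r := rootMultiplicity z s with hr
  have hr1 : 1 ≤ r := (rootMultiplicity_pos hs).2 hsz
  have hmem : ∀ v ∈ Submodule.span k ({F, G} : Set k[X]), v ≠ 0 → rootMultiplicity z v ≤ r := by
    intro v hv hv0
    obtain ⟨a, b, rfl⟩ := hall v hv
    by_cases hb : b = 0
    · subst hb
      simp only [zero_smul, add_zero] at hv0 ⊢
      have ha : a ≠ 0 := fun h => hv0 (by simp [h])
      rw [smul_eq_C_mul, rootMultiplicity_mul (mul_ne_zero (C_ne_zero.2 ha) hs), rootMultiplicity_C,
        zero_add]
    · rw [rootMultiplicity_eq_zero (by simp [hsz, hb, htz])]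
      exact Nat.zero_le _
  obtain ⟨hdvd, heq⟩ := wronskian_order (z := z) hs htz
  constructor
  · rintro ⟨⟨v, hv, hv0, hve⟩, hle⟩
    have hre : r = e := le_antisymm (hle s hsV hs) (hve.trans (hmem v hv hv0))
    have hne : (r : k) ≠ 0 := by
      rw [Ne, CharP.cast_eq_zero_iff k p]
      intro h
      have := Nat.le_of_dvd (by omega) h
      omega
    rw [← hwm, (heq hne).2]
    exact hre
  · intro h
    have hre : r = e := by
      by_cases hne : (r : k) = 0
      · exfalso
        have hp := Nat.le_of_dvd hr1 ((CharP.cast_eq_zero_iff k p r).1 hne)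
        have hW' : wronskian s t ≠ 0 := by rw [hw]; exact mul_ne_zero (C_ne_zero.2 hc) hW
        have h2 := (le_rootMultiplicity_iff (mul_ne_zero (X_sub_C_ne_zero z) hW')).2 hdvd
        rw [rootMultiplicity_mul (mul_ne_zero (X_sub_C_ne_zero z) hW'), rootMultiplicity_X_sub_C_self,
          hwm] at h2
        omega
      · have h3 := (heq hne).2
        rw [hwm] at h3
        omega
    exact ⟨⟨s, hsV, hs, hre.ge⟩, fun v hv hv0 => (hmem v hv hv0).trans hre.le⟩

theorem exists_antiderivative {p : ℕ} [CharP k p] {q : k[X]}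
    (h : ∀ m, p ∣ m + 1 → q.coeff m = 0) : ∃ H : k[X], derivative H = q := by
  refine ⟨∑ m ∈ q.support, monomial (m + 1) (q.coeff m / (m + 1 : k)), ?_⟩
  conv_rhs => rw [← q.sum_monomial_eq, sum_def]
  rw [map_sum]
  refine Finset.sum_congr rfl fun m hm => ?_
  rw [derivative_monomial, Nat.add_sub_cancel, Nat.cast_add, Nat.cast_one, div_mul_cancel₀]
  intro h0
  refine mem_support_iff.1 hm (h m ?_)
  exact (CharP.cast_eq_zero_iff k p (m + 1)).1 (by push_cast; exact h0)

theorem exists_pow_cong_local (p : ℕ) [Fact p.Prime] [CharP k p] [IsAlgClosed k] (H : k[X]) (z : k) :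
    ∀ N : ℕ, (X - C z) ^ (N - 1) ∣ derivative H → ∃ q : k[X], (X - C z) ^ N ∣ H - q ^ p := by
  intro N
  induction N with
  | zero => exact fun _ => ⟨0, by simp⟩
  | succ N ih =>
      intro hd
      obtain ⟨q, s, hs⟩ := ih ((pow_dvd_pow _ (by omega)).trans hd)
      have hder : derivative H = derivative ((X - C z) ^ N * s) := by
        rw [← hs, derivative_sub, derivative_pow, CharP.cast_eq_zero k p]; simp
      by_cases hN : (N : k) = 0
      · obtain ⟨j, rfl⟩ := (CharP.cast_eq_zero_iff k p N).1 hN
        obtain ⟨a, ha⟩ := IsAlgClosed.exists_pow_nat_eq (s.eval z) (Fact.out : p.Prime).pos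
        refine ⟨q + C a * (X - C z) ^ j, ?_⟩
        rw [add_pow_char, mul_pow, ← pow_mul, mul_comm j p, ← C_pow, ha,
          show H - (q ^ p + C (s.eval z) * (X - C z) ^ (p * j)) =
            (X - C z) ^ (p * j) * (s - C (s.eval z)) by linear_combination hs, pow_succ]
        exact mul_dvd_mul_left _ (dvd_iff_isRoot.2 (by simp))
      · refine ⟨q, ?_⟩
        rw [hs, pow_succ]
        refine mul_dvd_mul_left _ ?_
        have h1 : (X - C z) ^ (N + 1) ∣ (X - C z) * derivative ((X - C z) ^ N * s) := by
          rw [← hder, pow_succ']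
          exact mul_dvd_mul_left _ (by simpa using hd)
        rw [L_mul_derivative_pow_mul, pow_succ] at h1
        obtain ⟨v, hv⟩ := (mul_dvd_mul_iff_left (pow_ne_zero _ (X_sub_C_ne_zero z))).1 h1
        refine dvd_iff_isRoot.2 ?_
        have h2 := congrArg (eval z) hv
        simp [hN] at h2
        exact h2

theorem exists_pow_cong (p : ℕ) [Fact p.Prime] [CharP k p] [IsAlgClosed k] (H : k[X])
    (s : Finset k) (f : k → ℕ) (h : ∀ z ∈ s, (X - C z) ^ (f z - 1) ∣ derivative H) :
    ∃ q : k[X], (∏ z ∈ s, (X - C z) ^ f z) ∣ H - q ^ p := by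
  classical
  induction s using Finset.induction with
  | empty => exact ⟨0, by simp⟩
  | @insert z s hz ih =>
      obtain ⟨q1, h1⟩ := exists_pow_cong_local p H z (f z) (h z (Finset.mem_insert_self z s))
      obtain ⟨q2, h2⟩ := ih fun x hx => h x (Finset.mem_insert_of_mem hx)
      set M1 := (X - C z) ^ f z
      set M2 := ∏ x ∈ s, (X - C x) ^ f x
      have hco : IsCoprime M1 M2 := IsCoprime.prod_right fun x hx =>
        ((isCoprime_X_sub_C_of_isUnit_sub (sub_ne_zero.2 (fun hzx : z = x => hz (hzx ▸ hx))).isUnit)).pow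
      obtain ⟨u, v, huv⟩ := hco
      refine ⟨q1 * (v * M2) + q2 * (u * M1), ?_⟩
      rw [Finset.prod_insert hz]
      refine IsCoprime.mul_dvd ⟨u, v, huv⟩ ?_ ?_
      · have e : H - (q1 * (v * M2) + q2 * (u * M1)) ^ p =
            (H - q1 ^ p) + (q1 - (q1 * (v * M2) + q2 * (u * M1))) ^ p := by
          rw [sub_pow_char]; ring
        rw [e]
        refine dvd_add h1 (dvd_pow ⟨u * (q1 - q2), ?_⟩ (Fact.out : p.Prime).ne_zero)
        linear_combination -q1 * huv
      · have e : H - (q1 * (v * M2) + q2 * (u * M1)) ^ p =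
            (H - q2 ^ p) + (q2 - (q1 * (v * M2) + q2 * (u * M1))) ^ p := by
          rw [sub_pow_char]; ring
        rw [e]
        refine dvd_add h2 (dvd_pow ⟨v * (q2 - q1), ?_⟩ (Fact.out : p.Prime).ne_zero)
        linear_combination -q2 * huv

theorem exists_partner_natDegree {p : ℕ} [CharP k p] {b W : k[X]} {D : ℕ} (hb : b.Monic)
    (hW0 : W ≠ 0) (hWd : W.natDegree = 2 * D) (hbD : b.natDegree ≤ D + 1) (N : k[X])
    (hN : wronskian b N = W) :
    ∃ N' : k[X], wronskian b N' = W ∧ N'.natDegree + b.natDegree = 2 * D + 1 := by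
  induction hν : N.natDegree using Nat.strong_induction_on generalizing N with
  | _ ν ih =>
      have hXW : (X * W).coeff (2 * D + 1) ≠ 0 := by
        rw [coeff_X_mul, ← hWd]; exact leadingCoeff_ne_zero.2 hW0
      have hle : 2 * D + 1 ≤ b.natDegree + ν := by
        refine (le_natDegree_of_ne_zero hXW).trans ?_
        rw [← hN, ← hν]; exact natDegree_X_mul_wronskian_le b N
      rcases eq_or_lt_of_le hle with h | h
      · exact ⟨N, hN, by omega⟩
      have hN0 : N ≠ 0 := fun h0 => hW0 (by rw [← hN, h0, wronskian_zero_right])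
      have hc : ((ν : k) - b.natDegree) * N.coeff ν = 0 := by
        have h1 := coeff_X_mul_wronskian (F := b) (G := N) le_rfl hν.le
        rw [hN, hb.coeff_natDegree, one_mul] at h1
        rw [← h1]
        refine coeff_eq_zero_of_natDegree_lt ?_
        rw [natDegree_X_mul hW0, hWd]; exact h
      have hlead : N.coeff ν ≠ 0 := by rw [← hν]; exact leadingCoeff_ne_zero.2 hN0
      have hge : b.natDegree ≤ ν := by omega
      have hp : ((ν - b.natDegree : ℕ) : k) = 0 := by
        rw [Nat.cast_sub hge]; exact (mul_eq_zero.1 hc).resolve_right hlead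
      set N' := N - C (N.coeff ν) * X ^ (ν - b.natDegree) * b with hN'
      have hw : wronskian b N' = W := by
        rw [← hN, hN']
        simp only [wronskian, derivative_sub, derivative_mul, derivative_C, derivative_X_pow, hp]
        simp
        ring
      have hd : N'.natDegree < ν := by
        have hle' : N'.natDegree ≤ ν := by
          refine (natDegree_sub_le _ _).trans (max_le hν.le ?_)
          refine natDegree_mul_le.trans ?_
          have := natDegree_C_mul_X_pow_le (N.coeff ν) (ν - b.natDegree)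
          omega
        refine lt_of_le_of_ne hle' fun he => ?_
        have h0 : N'.coeff ν = 0 := by
          rw [hN', coeff_sub, mul_assoc, coeff_C_mul]
          rw [mul_comm (X ^ _), coeff_mul_X_pow', if_pos (by omega), Nat.sub_sub_self hge,
            hb.coeff_natDegree, mul_one, sub_self]
        have : N' = 0 := by rw [← leadingCoeff_eq_zero, leadingCoeff, he, h0]
        exact hW0 (by rw [← hw, this, wronskian_zero_right])
      exact ih _ hd N' hw rfl

theorem rootMultiplicity_prod_pow [DecidableEq k] (s : Finset k) (f : k → ℕ) (z : k) :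
    rootMultiplicity z (∏ x ∈ s, (X - C x) ^ f x) = if z ∈ s then f z else 0 := by
  have h := roots_prod (fun x : k => (X - C x) ^ f x) s
    (Finset.prod_ne_zero_iff.2 fun x _ => pow_ne_zero _ (X_sub_C_ne_zero x))
  rw [← count_roots, h, Multiset.count_bind, ← Finset.sum_eq_multiset_sum]
  simp [Multiset.count_singleton]

end Groth.Agent.Ram15.Wron
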