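import Mathlib
import Groth.Agent.CommAlg4.RamP1Three
import Groth.Agent.Ram15.Wron

/-!
Degenerations of pencils to inseparable ones put the ramification points in special position.
-/

set_option autoImplicit false

namespace Groth.Agent.Ram15.Special

open Polynomial W4c1limliniiii Groth.Agent.Ram15.Wron Groth.Agent.CommAlg4

universe u

variable {k : Type u} [Field k] {p : ℕ}

theorem cast_mod_eq [CharP k p] (a : ℕ) : ((a % p : ℕ) : k) = (a : k) := by
  conv_rhs => rw [← Nat.div_add_mod a p]
  simp [CharP.cast_eq_zero]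

theorem mod_eq_of_cast_eq [CharP k p] {a b : ℕ} (hb : b < p) (h : (a : k) = (b : k)) : a % p = b := by
  have := (CharP.natCast_eq_natCast k p).1 h
  exact Eq.trans this (Nat.mod_eq_of_lt hb)

theorem dvd_wronskian_of_member {F G : k[X]} {a b z : k} {m : ℕ} (hab : a ≠ 0 ∨ b ≠ 0)
    (h : (X - C z) ^ (m + 1) ∣ C a * F + C b * G) : (X - C z) ^ m ∣ wronskian F G := by
  rcases hab with ha | hb
  · have h1 : wronskian (C a * F + C b * G) G = C a * wronskian F G := by
      simp only [wronskian, derivative_add, derivative_C_mul]; ring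
    have h2 := RamP1Three.pow_dvd_wronskian (t := G) h
    rw [h1] at h2
    exact ((isUnit_C.2 ha.isUnit).dvd_mul_left).1 h2
  · have h1 : wronskian (C a * F + C b * G) F = C (-b) * wronskian F G := by
      simp only [wronskian, derivative_add, derivative_C_mul, map_neg]; ring
    have h2 := RamP1Three.pow_dvd_wronskian (t := F) h
    rw [h1] at h2
    exact ((isUnit_C.2 (neg_ne_zero.2 hb).isUnit).dvd_mul_left).1 h2

/-- The construction of the auxiliary pencil from a member of an inseparable limit pencil. -/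
theorem of_member [Fact p.Prime] [CharP k p] [IsAlgClosed k] (E n : ℕ) (e : Fin n → ℕ)
    (he2 : ∀ i, 2 ≤ e i) (hlt : ∀ i, e i < p) (hsum : (∑ i, (e i - 1)) = 2 * (E + 1))
    (P : Fin n → k) (hP : Function.Injective P) (S H : k[X]) (hSd : S.natDegree ≤ E + 2)
    (z₀ : k) (hr : p ≤ rootMultiplicity z₀ S) (hS : S ≠ 0)
    (hQ : derivative (∏ i, (X - C (P i)) ^ (e i - 1)) * derivative S -
      (∏ i, (X - C (P i)) ^ (e i - 1)) * derivative (derivative S) = S * H)
    (hHd : H.natDegree ≤ 2 * E) (hHtop : H.coeff (2 * E) = (((E + 1) * (E + 2) : ℕ) : k))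
    (hHdvd : ∀ i, (X - C (P i)) ^ (e i - 2) ∣ H)
    (hex : ∀ m, p ∣ m + 1 → ((∏ i, (X - C (P i)) ^ (e i - 1)) * S ^ (p - 2)).coeff m = 0) :
    ∃ m ε : ℕ, 1 ≤ m ∧ m * p ≤ E + 2 ∧ ε ≤ 1 ∧
      ∃ V ∈ ramMaps (E + 2 + m * p - 1 + ε) P e,
        HasRamIdxInf (E + 2 + m * p - 1 + ε) V (2 * m * p - 1 + 2 * ε) := by
  classical
  have hp2 : 2 ≤ p := (Fact.out : p.Prime).two_le
  set W0 : k[X] := ∏ i, (X - C (P i)) ^ (e i - 1) with hW0
  have hWm : W0.Monic := monic_prod_of_monic _ _ fun i _ => (monic_X_sub_C _).pow _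
  have hWd : W0.natDegree = 2 * (E + 1) := by
    rw [hW0, RamP1Three.natDegree_prod_pow P fun i => e i - 1, hsum]
  have hjP : ∀ i, rootMultiplicity (P i) W0 = e i - 1 := fun i => by
    have himg : W0 = ∏ x ∈ Finset.univ.image P, (X - C x) ^ Function.extend P (fun i => e i - 1) 0 x := by
      rw [Finset.prod_image fun a _ b _ h => hP h]
      simp [hW0, hP.extend_apply]
    rw [himg, rootMultiplicity_prod_pow, if_pos (by simp), hP.extend_apply]
  have hj : ∀ z, (∃ i, z = P i) ∨ rootMultiplicity z W0 = 0 := fun z => by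
    by_cases hz : ∃ i, z = P i
    · exact Or.inl hz
    · refine Or.inr (rootMultiplicity_eq_zero ?_)
      rw [IsRoot.def, hW0, eval_prod, Finset.prod_eq_zero_iff]
      rintro ⟨i, -, hi⟩
      simp only [eval_pow, eval_sub, eval_X, eval_C, pow_eq_zero_iff', sub_eq_zero] at hi
      exact hz ⟨i, hi.1⟩
  set j : k → ℕ := fun z => rootMultiplicity z W0 with hjdef
  have hj1 : ∀ z, j z + 1 < p := fun z => by
    rcases hj z with ⟨i, rfl⟩ | h
    · simp only [hjdef, hjP]; have := hlt i; have := he2 i; omega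
    · simp only [hjdef, h]; omega
  set g : k → ℕ := fun z => rootMultiplicity z S with hgdef
  have hg : ∀ z, g z % p ≤ j z + 1 ∧ (g z % p = 0 ∨ g z % p = j z + 1) := fun z => by
    obtain ⟨u, hu, hu'⟩ := exists_eq_pow_rootMultiplicity_mul_and_not_dvd S hS z
    obtain ⟨w, hw, hw'⟩ := exists_eq_pow_rootMultiplicity_mul_and_not_dvd W0 hWm.ne_zero z
    have hdv : (X - C z) ^ (j z - 1) ∣ H := by
      rcases hj z with ⟨i, rfl⟩ | h
      · simp only [hjdef, hjP, Nat.sub_sub]; exact hHdvd i
      · simp only [hjdef, h]; simp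
    have h := order_identity (j := j z) (g := g z) hw hu (fun h => hw' (dvd_iff_isRoot.2 h))
      (fun h => hu' (dvd_iff_isRoot.2 h)) hdv hQ
    rcases mul_eq_zero.1 h with h | h
    · have := mod_eq_of_cast_eq (p := p) (b := 0) (by omega) (h.trans Nat.cast_zero.symm)
      exact ⟨by omega, Or.inl this⟩
    · have := mod_eq_of_cast_eq (a := g z) (b := j z + 1) (hj1 z)
        (by push_cast; exact (sub_eq_zero.1 h).symm)
      exact ⟨this.le, Or.inr this⟩
  set s := S.roots.toFinset with hs
  set S1 : k[X] := ∏ z ∈ s, (X - C z) ^ g z with hS1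
  have hS1m : S1.Monic := monic_prod_of_monic _ _ fun z _ => (monic_X_sub_C _).pow _
  have hSS1 : S = C S.leadingCoeff * S1 := by
    conv_lhs => rw [(IsAlgClosed.splits S).eq_prod_roots, Finset.prod_multiset_map_count]
    simp [hS1, hgdef, hs, count_roots]
  set b : k[X] := ∏ z ∈ s, (X - C z) ^ (g z % p) with hb
  set r : k[X] := ∏ z ∈ s, (X - C z) ^ (g z / p) with hrdef
  have hbm : b.Monic := monic_prod_of_monic _ _ fun z _ => (monic_X_sub_C _).pow _
  have hrm : r.Monic := monic_prod_of_monic _ _ fun z _ => (monic_X_sub_C _).pow _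
  have hbr : S1 = b * r ^ p := by
    rw [hS1, hb, hrdef, ← Finset.prod_pow, ← Finset.prod_mul_distrib]
    refine Finset.prod_congr rfl fun z _ => ?_
    rw [← pow_mul, ← pow_add, mul_comm (g z / p) p, Nat.mod_add_div]
  have hdS : S.natDegree = b.natDegree + p * r.natDegree := by
    conv_lhs => rw [hSS1]
    rw [natDegree_C_mul (leadingCoeff_ne_zero.2 hS), hbr, hbm.natDegree_mul (hrm.pow _),
      hrm.natDegree_pow]
  have hz₀ : z₀ ∈ s := by
    rw [hs, Multiset.mem_toFinset, mem_roots hS]
    exact (rootMultiplicity_pos hS).1 (lt_of_lt_of_le (by omega) hr)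
  have hρ : 1 ≤ r.natDegree := by
    rw [hrdef, natDegree_prod_of_monic _ _ fun z _ => (monic_X_sub_C _).pow _]
    simp only [natDegree_pow, natDegree_X_sub_C, mul_one]
    exact (Nat.div_pos hr (by omega)).trans_le (Finset.single_le_sum (f := fun z => g z / p) (fun z _ => Nat.zero_le _) hz₀)
  have hdp : p ≤ S.natDegree := by
    rw [hdS]; have : p * 1 ≤ p * r.natDegree := Nat.mul_le_mul_left _ hρ; omega
  -- the behaviour at infinity
  obtain ⟨δ, hδ⟩ : ∃ δ, E + 2 = S.natDegree + δ := ⟨E + 2 - S.natDegree, by omega⟩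
  have hε : δ % p ≤ 1 := by
    obtain ⟨c', hc'⟩ : ∃ c', S.natDegree = c' + 2 := ⟨S.natDegree - 2, by omega⟩
    have h1 : ((δ : k)) * ((δ : k) - 1) = 0 := by
      have hlc : S.coeff (c' + 2) ≠ 0 := by rw [← hc']; exact leadingCoeff_ne_zero.2 hS
      have hd1 : (derivative S).natDegree ≤ c' + 1 := (natDegree_derivative_le S).trans (by omega)
      have hd2 : (derivative (derivative S)).natDegree ≤ c' :=
        (natDegree_derivative_le _).trans (by omega)
      have hW1 : (derivative W0).natDegree ≤ 2 * E + 1 := (natDegree_derivative_le W0).trans (by omega)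
      have h := congrArg (fun q : k[X] => q.coeff (c' + 2 + 2 * E)) hQ
      simp only [coeff_sub] at h
      rw [coeff_mul_add_eq_of_natDegree_le hc'.le hHd, hHtop] at h
      conv_lhs at h => arg 1; rw [show c' + 2 + 2 * E = 2 * E + 1 + (c' + 1) by omega,
        coeff_mul_add_eq_of_natDegree_le hW1 hd1]
      conv_lhs at h => arg 2; rw [show c' + 2 + 2 * E = 2 * E + 2 + c' by omega,
        coeff_mul_add_eq_of_natDegree_le (show W0.natDegree ≤ 2 * E + 2 by omega) hd2]
      simp only [coeff_derivative] at h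
      have hw1 : W0.coeff (2 * E + 1 + 1) = 1 := by
        rw [show 2 * E + 1 + 1 = W0.natDegree by omega]; exact hWm.coeff_natDegree
      have hw2 : W0.coeff (2 * E + 2) = 1 := by
        rw [show 2 * E + 2 = W0.natDegree by omega]; exact hWm.coeff_natDegree
      simp only [hw1, hw2] at h
      have hδk : (E : k) + 2 = (c' : k) + 2 + δ := by
        have := congrArg (Nat.cast (R := k)) hδ; rw [hc'] at this; push_cast at this; exact this
      have hz : S.coeff (c' + 2) * ((δ : k) * ((δ : k) - 1)) = 0 := by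
        push_cast at h
        linear_combination -h + S.coeff (c' + 2) * (-(E : k) - 1 + c' + 2 - δ) * hδk
      exact (mul_eq_zero.1 hz).resolve_left hlc
    rcases mul_eq_zero.1 h1 with h1 | h1
    · rw [mod_eq_of_cast_eq (p := p) (b := 0) (by omega) (h1.trans Nat.cast_zero.symm)]; omega
    · rw [mod_eq_of_cast_eq (p := p) (b := 1) (by omega) ((sub_eq_zero.1 h1).trans Nat.cast_one.symm)]
  -- exactness
  obtain ⟨H₁, hH₁⟩ : ∃ H₁, derivative H₁ = W0 * S1 ^ (p - 2) := by
    refine exists_antiderivative (p := p) fun m hm => ?_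
    have h := hex m hm
    rw [hSS1, mul_pow, ← C_pow, ← mul_assoc, mul_comm W0, mul_assoc, coeff_C_mul] at h
    exact (mul_eq_zero.1 h).resolve_left (pow_ne_zero _ (leadingCoeff_ne_zero.2 hS))
  obtain ⟨q, N, hN⟩ := exists_pow_cong p H₁ s (fun z => (g z % p) + g z * (p - 2)) fun z hz => by
    rw [hH₁]
    refine (pow_dvd_pow _ (show g z % p + g z * (p - 2) - 1 ≤ j z + g z * (p - 2) by
      have := (hg z).1; omega)).trans ?_
    rw [pow_add, pow_mul]
    exact mul_dvd_mul (pow_rootMultiplicity_dvd W0 z) (pow_dvd_pow_of_dvd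
      (Finset.dvd_prod_of_mem (fun z => (X - C z) ^ g z) hz) _)
  have hM : (∏ z ∈ s, (X - C z) ^ (g z % p + g z * (p - 2))) = b * S1 ^ (p - 2) := by
    rw [hb, hS1, ← Finset.prod_pow, ← Finset.prod_mul_distrib]
    simp only [pow_add, pow_mul]
  rw [hM] at hN
  have hbN : wronskian b N = W0 := by
    have h := congrArg derivative hN
    rw [derivative_sub, derivative_pow, hH₁, hbr, mul_pow, ← pow_mul, mul_comm p, pow_mul] at h
    obtain ⟨t, ht⟩ : ∃ t, p = t + 2 := ⟨p - 2, by omega⟩
    have hp1 : ((t : k)) + 1 = -1 := by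
      have := CharP.cast_eq_zero k p; rw [ht] at this; push_cast at this
      linear_combination this
    have hp0 : C ((p : ℕ) : k) = 0 := by simp [CharP.cast_eq_zero]
    simp only [hp0, zero_mul, sub_zero, derivative_mul, derivative_pow (r ^ (p - 2)) p] at h
    refine mul_left_cancel₀ (mul_ne_zero (pow_ne_zero (p - 2) hbm.ne_zero)
      (pow_ne_zero p (pow_ne_zero (p - 2) hrm.ne_zero))) ?_
    rw [mul_comm _ W0, h]
    simp only [ht, Nat.add_sub_cancel, wronskian]
    cases t with
    | zero =>
      have h2 : (2 : k[X]) = 0 := by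
        have := congrArg (C (R := k)) hp1; simp at this; linear_combination this
      simp
      linear_combination -(r ^ 0) * (derivative b * N) * h2
    | succ t =>
      have h2 : C ((t + 1 : ℕ) : k) = -2 := by
        have := congrArg (C (R := k)) hp1; simp at this ⊢; linear_combination this
      rw [derivative_pow, h2]
      simp [pow_succ]
      ring
  obtain ⟨N, hbN, hNd⟩ := exists_partner_natDegree (p := p) hbm hWm.ne_zero hWd
    (by rw [hdS] at hSd; omega) N hbN
  have hmp : (r.natDegree + δ / p) * p + δ % p + b.natDegree = E + 2 := by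
    rw [hδ, hdS, add_mul, mul_comm r.natDegree p]
    have := Nat.div_add_mod' δ p
    omega
  set m := r.natDegree + δ / p with hm
  have hm1 : 1 ≤ m := le_trans hρ (Nat.le_add_right _ _)
  have hmp' : p ≤ m * p := Nat.le_mul_of_pos_left p hm1
  refine ⟨m, δ % p, hm1, by omega, hε, Submodule.span k {b, N}, ?_, ?_⟩
  · have hN0 : N ≠ 0 := fun h => hWm.ne_zero (by rw [← hbN, h, wronskian_zero_right])
    have hNd' : N.natDegree = E + 2 + m * p - 1 + δ % p := by omega
    have hcop : ∀ z, ¬(b.eval z = 0 ∧ N.eval z = 0) := by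
      rintro z ⟨hbz, hNz⟩
      obtain ⟨f, hf⟩ : ∃ f, rootMultiplicity z b = f + 1 :=
        ⟨rootMultiplicity z b - 1, by have := (rootMultiplicity_pos hbm.ne_zero).2 hbz; omega⟩
      have hdv := RamP1Three.pow_dvd_wronskian_of_common (t := N)
        (hf ▸ pow_rootMultiplicity_dvd b z) (dvd_iff_isRoot.2 hNz)
      rw [hbN, ← le_rootMultiplicity_iff hWm.ne_zero] at hdv
      rw [hb, rootMultiplicity_prod_pow] at hf
      split_ifs at hf
      have hjz : j z = rootMultiplicity z W0 := rfl
      rcases (hg z).2 with h | h <;> omega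
    refine ⟨⟨Submodule.span_le.2 ?_, RamP1Three.finrank_span_pair ?_,
        ⟨N, Submodule.subset_span (by simp), hNd'⟩, fun z => ?_⟩,
      ⟨b, Submodule.subset_span (by simp), N, Submodule.subset_span (by simp),
        by rw [hbN]; exact hWm.ne_zero⟩, fun i => ?_⟩
    · rintro x (rfl | rfl) <;> exact mem_degreeLE.2 (natDegree_le_iff_degree_le.1 (by omega))
    · rw [LinearIndependent.pair_iff]
      intro a c hac
      have h1 : c • W0 = 0 := by
        have h2 := congrArg (wronskian b) hac
        rw [wronskian_zero_right] at h2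
        rw [← hbN, ← h2]
        simp only [wronskian, smul_eq_C_mul, derivative_add, derivative_C_mul]
        ring
      have hc : c = 0 := (smul_eq_zero.1 h1).resolve_right hWm.ne_zero
      subst hc
      simpa [hbm.ne_zero] using hac
    · by_contra hcon
      push Not at hcon
      exact hcop z ⟨hcon _ (Submodule.subset_span (by simp)), hcon _ (Submodule.subset_span (by simp))⟩
    · rw [hasRamIdx_iff (p := p) (hcop _) (by rw [hbN]; exact hWm.ne_zero) (he2 i) (hlt i), hbN, hjP]
      have := he2 i; omega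
  · have h2m : 2 * m * p = 2 * (m * p) := mul_assoc 2 m p
    refine ⟨⟨b, Submodule.subset_span (by simp), hbm.ne_zero, by omega⟩, fun v hv hv0 => ?_⟩
    obtain ⟨a, c, rfl⟩ := Submodule.mem_span_pair.1 hv
    by_cases hc : c = 0
    · subst hc
      simp only [zero_smul, add_zero] at hv0 ⊢
      rw [smul_eq_C_mul, natDegree_C_mul (fun h => hv0 (by simp [h]))]
      omega
    · have hN0 : N ≠ 0 := fun h => hWm.ne_zero (by rw [← hbN, h, wronskian_zero_right])
      have : (a • b + c • N).coeff N.natDegree ≠ 0 := by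
        rw [coeff_add, coeff_smul, coeff_smul,
          coeff_eq_zero_of_natDegree_lt (p := b) (n := N.natDegree) (by omega), smul_zero, zero_add]
        exact mul_ne_zero hc (leadingCoeff_ne_zero.2 hN0)
      have := le_natDegree_of_ne_zero this
      omega

theorem dvd_of_C_dvd_mul {A : Type u} [CommRing A] [IsDomain A] [IsDiscreteValuationRing A]
    {c : A} (hc : c ≠ 0) {S Y : A[X]} (hS : S.map (IsLocalRing.residue A) ≠ 0)
    (h : C c ∣ S * Y) : C c ∣ Y := by
  obtain ⟨ϖ, hϖ⟩ := IsDiscreteValuationRing.exists_irreducible A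
  obtain ⟨ν, u, rfl⟩ := IsDiscreteValuationRing.eq_unit_mul_pow_irreducible hc hϖ
  rw [map_mul, map_pow] at h ⊢
  rw [(isUnit_C.2 u.isUnit).mul_left_dvd] at h ⊢
  have hpr : Prime (C ϖ) := prime_C_iff.2 hϖ.prime
  refine hpr.pow_dvd_of_dvd_mul_left ν ?_ h
  rintro ⟨Q, rfl⟩
  apply hS
  rw [Polynomial.map_mul, Polynomial.map_C, (IsLocalRing.residue_eq_zero_iff ϖ).2
    ((IsLocalRing.mem_maximalIdeal ϖ).2 hϖ.not_isUnit)]
  simp

theorem map_wronskian {A B : Type u} [CommRing A] [CommRing B] (f : A →+* B) (F G : A[X]) :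
    (wronskian F G).map f = wronskian (F.map f) (G.map f) := by
  simp [wronskian, derivative_map]

open IsLocalRing in
theorem special_position (p : ℕ) [Fact p.Prime] (A : Type u) [CommRing A] [IsDomain A]
    [IsDiscreteValuationRing A] [CharP A p] [IsAlgClosed (ResidueField A)]
    (K : Type u) [Field K] [Algebra A K] [IsFractionRing A K]
    (d n : ℕ) (e : Fin n → ℕ) (he : Admissible p d e) (hlt : ∀ i, e i < p)
    (P : Fin n → A) (F G : A[X]) (hF : F.natDegree ≤ d) (hG : G.natDegree ≤ d)
    (hind : LinearIndependent (ResidueField A) ![F.map (residue A), G.map (residue A)])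
    (hgen : Submodule.span K {F.map (algebraMap A K), G.map (algebraMap A K)} ∈
      ramMaps d (fun i => algebraMap A K (P i)) e)
    (hinsep : ¬ IsSeparable
      (Submodule.span (ResidueField A) {F.map (residue A), G.map (residue A)}))
    (hdist : Function.Injective fun i => residue A (P i)) :
    ∃ m ε : ℕ, 1 ≤ m ∧ m * p ≤ d ∧ ε ≤ 1 ∧
      ∃ V ∈ ramMaps (d + m * p - 1 + ε) (fun i => residue A (P i)) e,
        HasRamIdxInf (d + m * p - 1 + ε) V (2 * m * p - 1 + 2 * ε) := by
  classical
  have hp2 : 2 ≤ p := (Fact.out : p.Prime).two_le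
  haveI : CharP (ResidueField A) p :=
    CharP.of_ringHom_of_ne_zero (residue A) p (Fact.out : p.Prime).ne_zero
  obtain ⟨hei, hsum⟩ := he
  set φ := algebraMap A K with hφdef
  have hφ : Function.Injective φ := IsFractionRing.injective A K
  obtain ⟨-, ⟨A₁, hA₁, B₁, hB₁, hAB⟩, hram⟩ := hgen
  have hmem : ∀ i, ∃ a b : K, (a ≠ 0 ∨ b ≠ 0) ∧
      (X - C (φ (P i))) ^ e i ∣ C a * F.map φ + C b * G.map φ := by
    intro i
    obtain ⟨⟨s, hs, hs0, hse⟩, -⟩ := hram i
    obtain ⟨a, b, rfl⟩ := Submodule.mem_span_pair.1 hs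
    refine ⟨a, b, ?_, ?_⟩
    · by_contra h
      push Not at h
      simp [h.1, h.2] at hs0
    · rw [← smul_eq_C_mul, ← smul_eq_C_mul]
      exact (le_rootMultiplicity_iff hs0).1 hse
  -- a member of the special pencil with a root of multiplicity at least `p`
  set Fb := F.map (residue A) with hFb
  set Gb := G.map (residue A) with hGb
  rw [LinearIndependent.pair_iff] at hind
  have hFb0 : Fb ≠ 0 := fun h => one_ne_zero (hind 1 0 (by simp [h])).1
  obtain ⟨z₀, hz₀⟩ := Infinite.exists_notMem_finset Fb.roots.toFinset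
  rw [Multiset.mem_toFinset, mem_roots hFb0, IsRoot.def] at hz₀
  obtain ⟨α, hα⟩ := residue_surjective (R := A) (-Gb.eval z₀)
  obtain ⟨β, hβ⟩ := residue_surjective (R := A) (Fb.eval z₀)
  set S : A[X] := C α * F + C β * G with hSdef
  have hSb : S.map (residue A) = C (-Gb.eval z₀) * Fb + C (Fb.eval z₀) * Gb := by
    simp [hSdef, hα, hβ, hFb, hGb]
  have hSb0 : S.map (residue A) ≠ 0 := fun h => hz₀ (hind _ _ (by
    rw [smul_eq_C_mul, smul_eq_C_mul, ← hSb, h])).2
  have hSz : (S.map (residue A)).eval z₀ = 0 := by simp [hSb]; ring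
  have hWb : wronskian Fb Gb = 0 := by
    by_contra h
    exact hinsep ⟨Fb, Submodule.subset_span (by simp), Gb, Submodule.subset_span (by simp), h⟩
  set r := rootMultiplicity z₀ (S.map (residue A)) with hrdef
  have hr : p ≤ r := by
    refine Nat.le_of_dvd ((rootMultiplicity_pos hSb0).2 hSz) ?_
    rw [← CharP.cast_eq_zero_iff (ResidueField A) p]
    by_contra hne
    refine ((wronskian_order hSb0 (t := Fb) hz₀).2 hne).1 ?_
    have : wronskian (S.map (residue A)) Fb = -(C (Fb.eval z₀) * wronskian Fb Gb) := by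
      rw [hSb]; simp only [wronskian, derivative_add, derivative_C_mul]; ring
    rw [this, hWb, mul_zero, neg_zero]
  have hSd : S.natDegree ≤ d :=
    (natDegree_add_le _ _).trans (max_le ((natDegree_C_mul_le _ _).trans hF)
      ((natDegree_C_mul_le _ _).trans hG))
  have hSbd : (S.map (residue A)).natDegree ≤ d := natDegree_map_le.trans hSd
  have hd2 : 2 ≤ d := by
    have h1 := natDegree_le_of_dvd (pow_rootMultiplicity_dvd (S.map (residue A)) z₀) hSb0
    rw [natDegree_pow, natDegree_X_sub_C, mul_one, ← hrdef] at h1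
    omega
  obtain ⟨E, rfl⟩ : ∃ E, d = E + 2 := ⟨d - 2, by omega⟩
  have hsum' : (∑ i, (e i - 1)) = 2 * (E + 1) := by
    rw [Finset.sum_tsub_distrib _ fun i _ => le_trans one_le_two (hei i).1]
    simp; omega
  -- the Wronskian over `A`
  set Pi : A[X] := ∏ i, (X - C (P i)) ^ (e i - 1) with hPi
  have hPim : Pi.Monic := monic_prod_of_monic _ _ fun i _ => (monic_X_sub_C _).pow _
  have hPid : Pi.natDegree = 2 * (E + 1) := by
    rw [hPi, natDegree_prod_of_monic _ _ fun i _ => (monic_X_sub_C _).pow _]
    simp [(monic_X_sub_C _).natDegree_pow, hsum']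
  have hW0 : wronskian (F.map φ) (G.map φ) ≠ 0 := fun h => by
    obtain ⟨c, hc⟩ := RamP1Three.wronskian_span hA₁ hB₁
    exact hAB (by rw [hc, h, mul_zero])
  obtain ⟨c, hc⟩ : ∃ c, wronskian F G = C c * Pi := by
    have hdv : Pi ∣ wronskian F G := by
      refine (map_dvd_map φ hφ hPim).1 ?_
      rw [hPi, Polynomial.map_prod, map_wronskian]
      simp only [Polynomial.map_pow, Polynomial.map_sub, map_X, map_C]
      refine RamP1Three.prod_pow_dvd (P := fun i => φ (P i))
        (fun i j h => hdist (congrArg (residue A) (hφ h))) (fun i => e i - 1) fun i => ?_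
      obtain ⟨a, b, hab, hd⟩ := hmem i
      refine dvd_wronskian_of_member hab ?_
      rwa [Nat.sub_add_cancel (le_trans one_le_two (hei i).1)]
    obtain ⟨Y, hY⟩ := hdv
    have hY0 : Y.natDegree = 0 := by
      by_contra hne
      have hYne : Y ≠ 0 := fun h => hne (by rw [h, natDegree_zero])
      have := natDegree_wronskian_le_two (D := E + 1) hF hG
      rw [hY, hPim.natDegree_mul' hYne, hPid] at this
      omega
    obtain ⟨c, rfl⟩ := natDegree_eq_zero.1 hY0
    exact ⟨c, by rw [hY, mul_comm]⟩
  set c₁ := β * c with hc₁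
  have hW : wronskian F S = C c₁ * Pi := by
    rw [hc₁, map_mul, mul_assoc, ← hc, hSdef]
    simp only [wronskian, derivative_add, derivative_C_mul]; ring
  have hc₁0 : c₁ ≠ 0 := by
    refine mul_ne_zero (fun h => hz₀ (by rw [← hβ, h, map_zero])) fun h => hW0 ?_
    rw [← map_wronskian, hc, h, map_zero, zero_mul, Polynomial.map_zero]
  set Y := wronskian (derivative F) (derivative S) with hY
  have hid : S * Y = C c₁ * (derivative Pi * derivative S - Pi * derivative (derivative S)) := by
    have h := congrArg derivative hW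
    rw [derivative_C_mul] at h
    linear_combination (norm := (simp only [hY, wronskian, derivative_sub, derivative_mul]; ring))
      derivative S * h - derivative (derivative S) * hW
  obtain ⟨H, hH⟩ := dvd_of_C_dvd_mul hc₁0 hSb0 ⟨_, hid⟩
  have hQ : derivative Pi * derivative S - Pi * derivative (derivative S) = S * H :=
    mul_left_cancel₀ (C_ne_zero.2 hc₁0) (by rw [← hid, hH]; ring)
  have hF' : (derivative F).natDegree ≤ E + 1 := (natDegree_derivative_le F).trans (by omega)
  have hS' : (derivative S).natDegree ≤ E + 1 := (natDegree_derivative_le S).trans (by omega)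
  have hHd : H.natDegree ≤ 2 * E := by
    rw [← natDegree_C_mul hc₁0, ← hH]
    exact natDegree_wronskian_le_two hF' hS'
  have hHtop : H.coeff (2 * E) = (((E + 1) * (E + 2) : ℕ) : A) := by
    refine mul_left_cancel₀ hc₁0 ?_
    have h1 := coeff_wronskian_two (D := E) hF' hS'
    rw [← hY, hH, coeff_C_mul] at h1
    have h2 := coeff_wronskian_two (D := E + 1) hF hSd
    rw [hW, coeff_C_mul, ← hPid, hPim.coeff_natDegree, mul_one] at h2
    rw [h1, h2]
    simp only [coeff_derivative]
    push_cast
    ring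
  have hHdvd : ∀ i, (X - C (P i)) ^ (e i - 2) ∣ H := fun i => by
    refine (map_dvd_map φ hφ ((monic_X_sub_C _).pow _)).1 ?_
    rw [Polynomial.map_pow, Polynomial.map_sub, map_X, map_C]
    refine ((isUnit_C.2 ((map_ne_zero_iff φ hφ).2 hc₁0).isUnit).dvd_mul_left).1 ?_
    rw [show C (φ c₁) * H.map φ = (C c₁ * H).map φ by simp, ← hH, hY, map_wronskian]
    obtain ⟨a, b, hab, hd⟩ := hmem i
    have h1 : wronskian ((derivative F).map φ) ((derivative S).map φ) =
        C (φ β) * wronskian (derivative (F.map φ)) (derivative (G.map φ)) := by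
      simp only [hSdef, derivative_map, derivative_add, derivative_C_mul, Polynomial.map_add,
        Polynomial.map_mul, map_C, wronskian]
      ring
    rw [h1]
    refine Dvd.dvd.mul_left (dvd_wronskian_of_member hab ?_) _
    have h2 : e i = e i - 2 + 1 + 1 := by have := (hei i).1; omega
    rw [h2] at hd
    have h3 := RamP1Three.pow_dvd_derivative hd
    rwa [derivative_add, derivative_C_mul, derivative_C_mul] at h3
  have hex : ∀ m, p ∣ m + 1 → (Pi * S ^ (p - 2)).coeff m = 0 := fun m hm => by
    obtain ⟨t, ht⟩ : ∃ t, p = t + 2 := ⟨p - 2, by omega⟩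
    have hp1 : (C ((t + 1 : ℕ) : A)) = -1 := by
      have : ((p : ℕ) : A) = 0 := CharP.cast_eq_zero A p
      rw [ht] at this; push_cast at this
      rw [← C_1, ← C_neg]; congr 1; push_cast; linear_combination this
    have h : derivative (F * S ^ (t + 1)) = -(C c₁ * (Pi * S ^ t)) := by
      rw [derivative_mul, derivative_pow, hp1, Nat.add_sub_cancel]
      linear_combination (norm := (simp only [wronskian, pow_succ]; ring)) -(S ^ t) * hW
    have h' := congrArg (fun q : A[X] => q.coeff m) h
    simp only [coeff_derivative, coeff_neg, coeff_C_mul] at h'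
    have h0 : ((m : A) + 1) = 0 := by
      have := (CharP.cast_eq_zero_iff A p (m + 1)).2 hm; push_cast at this; exact this
    rw [h0, mul_zero, eq_comm, neg_eq_zero, mul_eq_zero] at h'
    rw [ht, Nat.add_sub_cancel]
    exact h'.resolve_left hc₁0
  have hPib : Pi.map (residue A) = ∏ i, (X - C (residue A (P i))) ^ (e i - 1) := by
    simp [hPi, Polynomial.map_prod]
  refine of_member E n e (fun i => (hei i).1) hlt hsum' (fun i => residue A (P i)) hdist
    (S.map (residue A)) (H.map (residue A)) hSbd z₀ hr hSb0 ?_ (natDegree_map_le.trans hHd) ?_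
    (fun i => ?_) fun m hm => ?_
  · rw [← hPib]
    simpa [derivative_map] using congrArg (Polynomial.map (residue A)) hQ
  · rw [coeff_map, hHtop, map_natCast]
  · simpa using Polynomial.map_dvd (residue A) (hHdvd i)
  · rw [← hPib, ← Polynomial.map_pow, ← Polynomial.map_mul, coeff_map, hex m hm, map_zero]

end Groth.Agent.Ram15.Special
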