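import Groth.Prelude.Def_W4c1limliniiiiRamP1
import Groth.Agent.Ram15.GenericFinite

/-! The tangent space to the space of pencils with ramification at moving points. -/

open Polynomial

namespace Groth.Agent.Ram15

universe u
variable {k : Type u} [Field k]

set_option maxHeartbeats 800000 in
/-- Linear algebra: the deformations of a pencil keeping ramification indices `e i` at moving points
form a space of dimension at most the number of points (less one if two of the moving members
coincide). `T` is the space of deformations, `δA`, `δB` those of the chosen basis `A i, B i`. -/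
theorem finrank_tangent_le {d n : ℕ} (hd : 1 ≤ d) (P : Fin n → k) (hP : Function.Injective P)
    (e : Fin n → ℕ) (he2 : ∀ i, 2 ≤ e i) (he : ∀ i, ((e i : ℕ) : k) ≠ 0)
    (hsum : (∑ i, e i) + 2 = 2 * d + n) (F G : k[X]) (hFd : F.natDegree ≤ d) (hGd : G.natDegree ≤ d)
    (hinj : ∀ a b : k[X], a ∈ degreeLT k d → b ∈ degreeLT k d → F * b + G * a = 0 → a = 0 ∧ b = 0)
    (pa pb : Fin (d + 1)) (hab : pa ≠ pb)
    (hFa : F.coeff pa = 1) (hFb : F.coeff pb = 0) (hGa : G.coeff pa = 0) (hGb : G.coeff pb = 1)
    (ch : Fin n → Bool) (w : Fin n → k)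
    (hs : ∀ i, (X - C (P i)) ^ e i ∣
      (bif ch i then G else F) + C (w i) * (bif ch i then F else G))
    (hex : ∀ i, ((((bif ch i then G else F) + C (w i) * (bif ch i then F else G))).comp
      (X + C (P i))).coeff (e i) ≠ 0)
    {V : Type*} [AddCommGroup V] [Module k V] (T : Submodule k V) [FiniteDimensional k T]
    (dF dG : V →ₗ[k] k[X]) (dP dw : Fin n → (V →ₗ[k] k))
    (hdF : ∀ v ∈ T, (dF v).natDegree ≤ d ∧ (dF v).coeff pa = 0 ∧ (dF v).coeff pb = 0)
    (hdG : ∀ v ∈ T, (dG v).natDegree ≤ d ∧ (dG v).coeff pa = 0 ∧ (dG v).coeff pb = 0)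
    (htan : ∀ v ∈ T, ∀ i, (X - C (P i)) ^ e i ∣
      (bif ch i then dG v else dF v) + C (dw i v) * (bif ch i then F else G) +
        C (w i) * (bif ch i then dF v else dG v) +
        C (dP i v) * derivative ((bif ch i then G else F) + C (w i) * (bif ch i then F else G)))
    (hzero : ∀ v ∈ T, dF v = 0 → dG v = 0 → (∀ i, dP i v = 0) → (∀ i, dw i v = 0) → v = 0)
    (drop : Option (Fin n × Fin n))
    (hdrop : ∀ p, drop = some p → p.1 ≠ p.2 ∧ ch p.1 = ch p.2 ∧ w p.1 = w p.2 ∧
      ∀ v ∈ T, dw p.1 v = dw p.2 v) :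
    Module.finrank k T + (if drop.isSome then 1 else 0) ≤ n := by
  classical
  let A : Fin n → k[X] := fun i => bif ch i then G else F
  let B : Fin n → k[X] := fun i => bif ch i then F else G
  let s : Fin n → k[X] := fun i => A i + C (w i) * B i
  have hsP : ∀ i, (s i).eval (P i) = 0 := fun i => by
    obtain ⟨c, hc⟩ := hs i
    show (A i + C (w i) * B i).eval (P i) = 0
    rw [show A i + C (w i) * B i = _ from hc]
    have := he2 i
    simp [zero_pow (by omega : e i ≠ 0)]
  -- no base points
  have hcop : ∀ x : k, F.eval x = 0 → G.eval x ≠ 0 := by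
    intro x hF hG
    obtain ⟨F', hF'⟩ := dvd_iff_isRoot.2 (show F.IsRoot x from hF)
    obtain ⟨G', hG'⟩ := dvd_iff_isRoot.2 (show G.IsRoot x from hG)
    have hlt : ∀ Q Q' : k[X], Q.natDegree ≤ d → Q = (X - C x) * Q' → Q' ∈ degreeLT k d := by
      intro Q Q' hQ hQQ
      rw [mem_degreeLT]
      rcases eq_or_ne Q' 0 with rfl | h0
      · simp
      · rw [degree_eq_natDegree h0]
        rw [hQQ, natDegree_mul (X_sub_C_ne_zero x) h0, natDegree_X_sub_C] at hQ
        exact_mod_cast (by omega : Q'.natDegree < d)
    have h := hinj (-F') G' (neg_mem (hlt F F' hFd hF')) (hlt G G' hGd hG')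
      (by rw [hF', hG']; ring)
    rw [h.2, mul_zero] at hG'
    rw [hG', coeff_zero] at hGb
    exact zero_ne_one hGb
  have hB : ∀ i, (B i).eval (P i) ≠ 0 := by
    intro i h
    have hA : (A i).eval (P i) = 0 := by
      have := hsP i
      simp only [s, eval_add, eval_mul, eval_C, h, mul_zero, add_zero] at this
      exact this
    cases hc : ch i <;> simp only [A, B, hc, cond_true, cond_false] at h hA
    · exact hcop _ hA h
    · exact hcop _ h hA
  let M : k[X] := ∏ i, (X - C (P i)) ^ (e i - 1)
  have hMd : M.natDegree + 2 = 2 * d := by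
    show (∏ i, (X - C (P i)) ^ (e i - 1)).natDegree + 2 = 2 * d
    rw [natDegree_prod _ _ fun i _ => pow_ne_zero _ (X_sub_C_ne_zero _)]
    simp only [natDegree_pow, natDegree_X_sub_C, mul_one]
    have : ∑ i, (e i - 1) + n = ∑ i, e i := by
      have h : ∑ i, (e i - 1) + ∑ _i : Fin n, 1 = ∑ i, e i := by
        rw [← Finset.sum_add_distrib]
        exact Finset.sum_congr rfl fun i _ => by have := he2 i; omega
      simpa using h
    omega
  have hM0 : M ≠ 0 := Finset.prod_ne_zero_iff.2 fun i _ => pow_ne_zero _ (X_sub_C_ne_zero _)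
  -- the map to forms of degree `2 d`
  let Ψ : (T × (Fin 3 → k)) →ₗ[k] k[X] :=
    { toFun := fun v => F * dG v.1.1 - G * dF v.1.1 +
        (C (v.2 0) * (F * F) + C (v.2 1) * (F * G) + C (v.2 2) * (G * G))
      map_add' := fun u v => by
        simp only [Prod.fst_add, Prod.snd_add, Submodule.coe_add, map_add, Pi.add_apply]
        ring
      map_smul' := fun c v => by
        simp only [Prod.smul_fst, Prod.smul_snd, Submodule.coe_smul, map_smul, Pi.smul_apply,
          smul_eq_mul, map_mul, RingHom.id_apply, smul_eq_C_mul]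
        ring }
  have hΨdeg : ∀ v, (Ψ v).natDegree ≤ 2 * d := fun v => by
    show (F * dG v.1.1 - G * dF v.1.1 +
      (C (v.2 0) * (F * F) + C (v.2 1) * (F * G) + C (v.2 2) * (G * G))).natDegree ≤ 2 * d
    have h1 := (hdF _ v.1.2).1
    have h2 := (hdG _ v.1.2).1
    have hp : ∀ Q R : k[X], Q.natDegree ≤ d → R.natDegree ≤ d → (Q * R).natDegree ≤ 2 * d :=
      fun Q R hQ hR => natDegree_mul_le.trans (by omega)
    exact natDegree_add_le_of_degree_le
      ((natDegree_sub_le _ _).trans (max_le (hp _ _ hFd h2) (hp _ _ hGd h1)))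
      (natDegree_add_le_of_degree_le
        (natDegree_add_le_of_degree_le ((natDegree_C_mul_le _ _).trans (hp _ _ hFd hFd))
          ((natDegree_C_mul_le _ _).trans (hp _ _ hFd hGd)))
        ((natDegree_C_mul_le _ _).trans (hp _ _ hGd hGd)))
  -- congruence
  have hcong : ∀ (v : T × (Fin 3 → k)) (i : Fin n), ∃ c : k,
      (X - C (P i)) ^ (e i - 1) ∣ Ψ v - C c * (B i * B i) ∧
        c = (bif ch i then -1 else 1) * dw i v.1.1 +
          (bif ch i then v.2 0 - v.2 1 * w i + v.2 2 * w i ^ 2
            else v.2 0 * w i ^ 2 - v.2 1 * w i + v.2 2) := by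
    intro v i
    refine ⟨_, ?_, rfl⟩
    have hle : (X - C (P i)) ^ (e i - 1) ∣ (X - C (P i)) ^ e i := pow_dvd_pow _ (Nat.sub_le _ _)
    have hs1 : (X - C (P i)) ^ (e i - 1) ∣ s i := hle.trans (hs i)
    have hs2 : (X - C (P i)) ^ (e i - 1) ∣ derivative (s i) := by
      obtain ⟨c, hc⟩ := hs i
      rw [show s i = _ from hc, derivative_mul, derivative_pow]
      refine dvd_add (Dvd.dvd.mul_right ?_ _) (Dvd.dvd.mul_right hle _)
      exact Dvd.dvd.mul_right (Dvd.dvd.mul_left dvd_rfl _) _
    have ht := hle.trans (htan _ v.1.2 i)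
    have hX : (X - C (P i)) ^ (e i - 1) ∣ (bif ch i then dG v.1.1 else dF v.1.1) +
        C (dw i v.1.1) * B i + C (w i) * (bif ch i then dF v.1.1 else dG v.1.1) := by
      have := dvd_sub ht (hs2.mul_left (C (dP i v.1.1)))
      simpa [A, B, s] using this
    show (X - C (P i)) ^ (e i - 1) ∣ F * dG v.1.1 - G * dF v.1.1 +
      (C (v.2 0) * (F * F) + C (v.2 1) * (F * G) + C (v.2 2) * (G * G)) - _
    obtain ⟨s1, hs1'⟩ := hs1
    obtain ⟨x1, hx1⟩ := hX
    cases hc : ch i <;> simp only [A, B, s, hc, cond_true, cond_false] at hs1' hx1 ⊢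
    · refine ⟨s1 * dG v.1.1 - G * x1 +
        C (v.2 0) * (F - C (w i) * G) * s1 + C (v.2 1) * G * s1, ?_⟩
      simp only [map_add, map_mul, map_sub, map_pow, map_one]
      linear_combination (dG v.1.1 + C (v.2 0) * (F - C (w i) * G) + C (v.2 1) * G) * hs1' - G * hx1
    · refine ⟨F * x1 - s1 * dF v.1.1 +
        C (v.2 2) * (G - C (w i) * F) * s1 + C (v.2 1) * F * s1, ?_⟩
      simp only [map_add, map_mul, map_sub, map_pow, map_one, map_neg]
      linear_combination F * hx1 + (C (v.2 2) * (G - C (w i) * F) + C (v.2 1) * F - dF v.1.1) * hs1'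
  -- the values at the points
  let Γ : (T × (Fin 3 → k)) →ₗ[k] ({i // ∀ p, drop = some p → i ≠ p.2} → k) :=
    LinearMap.pi fun i =>
      { toFun := fun v => (Ψ v).eval (P i.1) / ((B i.1).eval (P i.1)) ^ 2
        map_add' := fun u v => by simp only [map_add, eval_add, add_div]
        map_smul' := fun c v => by simp only [map_smul, eval_smul, smul_eq_mul, RingHom.id_apply, mul_div_assoc] }
  have hker : ∀ v ∈ LinearMap.ker Γ, M ∣ Ψ v := by
    intro v hv
    refine Finset.prod_dvd_of_coprime (fun i _ j _ hij => (isCoprime_X_sub_C_of_isUnit_sub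
      (sub_ne_zero.2 (hP.ne hij)).isUnit).pow) fun i _ => ?_
    obtain ⟨c, hc, hcv⟩ := hcong v i
    have hval : ∀ l c', (X - C (P l)) ^ (e l - 1) ∣ Ψ v - C c' * (B l * B l) →
        c' = (Ψ v).eval (P l) / ((B l).eval (P l)) ^ 2 := by
      intro l c' h
      have := he2 l
      have h0 := (dvd_pow_self (X - C (P l)) (by omega : e l - 1 ≠ 0)).trans h
      rw [dvd_iff_isRoot, IsRoot, eval_sub, eval_mul, eval_C, eval_mul, sub_eq_zero] at h0
      rw [h0, sq, mul_div_assoc, div_self (mul_ne_zero (hB l) (hB l)), mul_one]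
    suffices c = 0 by simpa [this] using hc
    by_cases hi : ∀ p, drop = some p → i ≠ p.2
    · rw [hval i c hc]
      exact congrFun (LinearMap.mem_ker.1 hv) ⟨i, hi⟩
    · push Not at hi
      obtain ⟨p, hp, rfl⟩ := hi
      obtain ⟨hne, hch, hw, hdw⟩ := hdrop p hp
      obtain ⟨c', hc', hcv'⟩ := hcong v p.1
      have h1 : c' = 0 := by
        rw [hval p.1 c' hc']
        exact congrFun (LinearMap.mem_ker.1 hv) ⟨p.1, fun q hq => by
          rw [hp] at hq; cases hq; exact hne⟩
      rw [← h1, hcv, hcv', hch, hw, hdw _ v.1.2]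
  have hΨ : ∀ v, Ψ v = 0 → v = 0 := by
    intro v hv
    obtain ⟨hF1, hFa', hFb'⟩ := hdF _ v.1.2
    obtain ⟨hG1, hGa', hGb'⟩ := hdG _ v.1.2
    let H : k[X] := dG v.1.1 + C (v.2 0) * F + C (v.2 1) * G
    let K : k[X] := dF v.1.1 - C (v.2 2) * G
    have hHK : F * H = G * K := by
      have : F * dG v.1.1 - G * dF v.1.1 +
          (C (v.2 0) * (F * F) + C (v.2 1) * (F * G) + C (v.2 2) * (G * G)) = 0 := hv
      linear_combination this
    obtain ⟨l, hlH, hlK⟩ : ∃ l : k, H = C l * G ∧ K = C l * F := by
      have hdeg : F.natDegree = d ∨ G.natDegree = d := by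
        by_contra h
        push Not at h
        have hm : ∀ Q : k[X], Q.natDegree ≤ d → Q.natDegree ≠ d → Q ∈ degreeLT k d := fun Q h1 h2 => by
          rw [mem_degreeLT]
          exact degree_le_natDegree.trans_lt (by exact_mod_cast (by omega : Q.natDegree < d))
        have := (hinj (-F) G (neg_mem (hm F hFd h.1)) (hm G hGd h.2) (by ring)).2
        rw [this, coeff_zero] at hGb
        exact zero_ne_one hGb
      have hH : H.natDegree ≤ d := natDegree_add_le_of_degree_le
        (natDegree_add_le_of_degree_le hG1 ((natDegree_C_mul_le _ _).trans hFd))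
        ((natDegree_C_mul_le _ _).trans hGd)
      have hK : K.natDegree ≤ d := (natDegree_sub_le _ _).trans (max_le hF1 ((natDegree_C_mul_le _ _).trans hGd))
      have hlt : ∀ Q : k[X], Q.natDegree ≤ d → Q.coeff d = 0 → Q ∈ degreeLT k d := fun Q hQ hQd => by
        rw [mem_degreeLT, degree_lt_iff_coeff_zero]
        intro m hm
        rcases eq_or_lt_of_le hm with rfl | hm
        · exact hQd
        · exact coeff_eq_zero_of_natDegree_lt (by omega)
      have htop : F.coeff d * H.coeff d = G.coeff d * K.coeff d := by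
        have := congrArg (fun Q => Q.coeff (d + d)) hHK
        simpa [coeff_mul_add_eq_of_natDegree_le, hFd, hH, hGd, hK] using this
      rcases hdeg with h | h
      · have h0 : F.coeff d ≠ 0 := by
          rw [← h]; exact leadingCoeff_ne_zero.2 fun h => by simp [h] at hFa
        obtain ⟨l, hl⟩ : ∃ l, l * F.coeff d = K.coeff d := ⟨K.coeff d / F.coeff d, div_mul_cancel₀ _ h0⟩
        have hl2 : l * G.coeff d = H.coeff d := by
          apply mul_left_cancel₀ h0
          rw [htop, ← hl]; ring
        obtain ⟨h1, h2⟩ := hinj (-(K - C l * F)) (H - C l * G)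
          (neg_mem (hlt _ ((natDegree_sub_le _ _).trans (max_le hK ((natDegree_C_mul_le _ _).trans hFd)))
            (by simp [hl])))
          (hlt _ ((natDegree_sub_le _ _).trans (max_le hH ((natDegree_C_mul_le _ _).trans hGd)))
            (by simp [hl2]))
          (by linear_combination hHK)
        exact ⟨l, sub_eq_zero.1 h2, sub_eq_zero.1 (neg_eq_zero.1 h1)⟩
      · have h0 : G.coeff d ≠ 0 := by
          rw [← h]; exact leadingCoeff_ne_zero.2 fun h => by simp [h] at hGb
        obtain ⟨l, hl2⟩ : ∃ l, l * G.coeff d = H.coeff d := ⟨H.coeff d / G.coeff d, div_mul_cancel₀ _ h0⟩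
        have hl : l * F.coeff d = K.coeff d := by
          apply mul_left_cancel₀ h0
          rw [← htop, ← hl2]; ring
        obtain ⟨h1, h2⟩ := hinj (-(K - C l * F)) (H - C l * G)
          (neg_mem (hlt _ ((natDegree_sub_le _ _).trans (max_le hK ((natDegree_C_mul_le _ _).trans hFd)))
            (by simp [hl])))
          (hlt _ ((natDegree_sub_le _ _).trans (max_le hH ((natDegree_C_mul_le _ _).trans hGd)))
            (by simp [hl2]))
          (by linear_combination hHK)
        exact ⟨l, sub_eq_zero.1 h2, sub_eq_zero.1 (neg_eq_zero.1 h1)⟩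
    have k1 := congrArg (fun Q => Q.coeff (pa : ℕ)) hlK
    have k2 := congrArg (fun Q => Q.coeff (pb : ℕ)) hlK
    simp [K, hFa', hFb', hFa, hFb, hGa, hGb] at k1 k2
    subst k1
    have g1 := congrArg (fun Q => Q.coeff (pa : ℕ)) hlH
    have g2 := congrArg (fun Q => Q.coeff (pb : ℕ)) hlH
    simp [H, hGa', hGb', hFa, hFb, hGa, hGb] at g1 g2
    have hF0 : dF v.1.1 = 0 := by simpa [K, k2] using hlK
    have hG0 : dG v.1.1 = 0 := by simpa [H, g1, g2] using hlH
    have hv2 : v.2 = 0 := funext fun j => by fin_cases j <;> simp [g1, g2, k2]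
    refine Prod.ext (Subtype.ext (hzero _ v.1.2 hF0 hG0 ?_ ?_)) hv2
    all_goals intro i
    all_goals
      have ht := htan _ v.1.2 i
      simp only [hF0, hG0, mul_zero, add_zero, Bool.cond_self, zero_add] at ht
      have hdw : dw i v.1.1 = 0 := by
        have hd1 : X - C (P i) ∣ C (dw i v.1.1) * B i := by
          have hs2 : X - C (P i) ∣ derivative (s i) := by
            obtain ⟨c, hc⟩ := hs i
            rw [show s i = _ from hc, derivative_mul, derivative_pow]
            have := he2 i
            refine dvd_add (Dvd.dvd.mul_right ?_ _) (Dvd.dvd.mul_right (dvd_pow_self _ (by omega)) _)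
            exact Dvd.dvd.mul_right (Dvd.dvd.mul_left (dvd_pow_self _ (by omega)) _) _
          have := he2 i
          have h1 := dvd_sub ((dvd_pow_self (X - C (P i)) (by omega : e i ≠ 0)).trans ht)
            (hs2.mul_left (C (dP i v.1.1)))
          simpa [A, B, s] using h1
        rw [dvd_iff_isRoot, IsRoot, eval_mul, eval_C, mul_eq_zero] at hd1
        exact hd1.resolve_right (hB i)
    · simp only [hdw, map_zero, zero_mul, zero_add] at ht
      have h1 : X ^ e i ∣ (C (dP i v.1.1) * derivative (s i)).comp (X + C (P i)) := by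
        have h2 : ((X - C (P i)) ^ e i).comp (X + C (P i)) = X ^ e i := by simp
        rw [← h2]
        exact map_dvd (compRingHom (X + C (P i))) ht
      rw [X_pow_dvd_iff] at h1
      have h3 := h1 (e i - 1) (by have := he2 i; omega)
      rw [mul_comp, C_comp, coeff_C_mul, mul_eq_zero] at h3
      refine h3.resolve_right fun h4 => ?_
      have h5 : derivative ((s i).comp (X + C (P i))) = (derivative (s i)).comp (X + C (P i)) := by
        simp [derivative_comp]
      rw [← h5, coeff_derivative, Nat.sub_add_cancel (by have := he2 i; omega : 1 ≤ e i)] at h4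
      rcases mul_eq_zero.1 h4 with h4 | h4
      · exact hex i h4
      · exact he i (by rw [← h4, ← Nat.cast_add_one, Nat.sub_add_cancel (by have := he2 i; omega : 1 ≤ e i)])
    · exact hdw
  -- counting
  have hkerle : Module.finrank k (LinearMap.ker Γ) ≤ 3 := by
    choose R hR using fun v : LinearMap.ker Γ => hker v.1 v.2
    let Φ : LinearMap.ker Γ →ₗ[k] (Fin 3 → k) :=
      { toFun := fun v j => (R v).coeff j
        map_add' := fun u v => by
          have : R (u + v) = R u + R v := mul_left_cancel₀ hM0 (by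
            rw [mul_add, ← hR, ← hR, ← hR, Submodule.coe_add, map_add])
          funext j; simp [this]
        map_smul' := fun c v => by
          have : R (c • v) = C c * R v := mul_left_cancel₀ hM0 (by
            rw [← hR, Submodule.coe_smul, map_smul, hR, smul_eq_C_mul]; ring)
          funext j; simp [this] }
    have hΦ : Function.Injective Φ := by
      rw [injective_iff_map_eq_zero]
      intro v hv
      refine Subtype.ext (hΨ _ ?_)
      rw [hR v]
      rcases eq_or_ne (R v) 0 with h0 | h0
      · rw [h0, mul_zero]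
      exfalso
      have hdeg := hΨdeg v.1
      rw [hR v, natDegree_mul hM0 h0] at hdeg
      refine h0 (Polynomial.ext fun m => ?_)
      rw [coeff_zero]
      by_cases hm : m < 3
      · exact congrFun hv ⟨m, hm⟩
      · exact coeff_eq_zero_of_natDegree_lt (by omega)
    simpa using LinearMap.finrank_le_finrank_of_injective hΦ
  have hrank := Γ.finrank_range_add_finrank_ker
  rw [Module.finrank_prod, Module.finrank_fin_fun] at hrank
  have hr := Submodule.finrank_le (LinearMap.range Γ)
  rw [Module.finrank_fintype_fun_eq_card] at hr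
  have hcard : Fintype.card {i // ∀ p, drop = some p → i ≠ p.2} + (if drop.isSome then 1 else 0) = n := by
    rw [Fintype.card_subtype]
    cases drop with
    | none => simp
    | some p =>
      have : (Finset.univ.filter fun i => ∀ q, (some p : Option (Fin n × Fin n)) = some q → i ≠ q.2) =
          Finset.univ.erase p.2 := by
        ext i
        simp
      rw [this, Finset.card_erase_of_mem (Finset.mem_univ _), Finset.card_univ, Fintype.card_fin]
      have := p.2.isLt
      simp; omega
  omega

end Groth.Agent.Ram15
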